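import Cfsg.Agent.Lib.Transfer.ThompsonTransfer

/-!
# Transfer of an element of order four
-/

set_option autoImplicit false
set_option linter.all false

namespace CfsgLib.PSLOrderSpectrum

open Subgroup
open scoped IsMulCommutative

variable {G : Type*} [Group G] [Finite G]

/-- An element of order four without conjugates in the maximal subgroup `Q` of a Sylow 2-subgroup, whose square
has all its conjugates in the Sylow subgroup inside `Q`, avoids a subgroup of index two. -/
theorem transfer_four (P : Sylow 2 G) (Q : Subgroup G) (hQi : Q.relIndex (P : Subgroup G) = 2) {u : G}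
    (hu : u ^ 4 = 1) (h1 : ∀ g : G, g * u * g⁻¹ ∉ Q)
    (h2 : ∀ g : G, g * (u * u) * g⁻¹ ∈ (P : Subgroup G) → g * (u * u) * g⁻¹ ∈ Q) :
    ∃ M : Subgroup G, M.Normal ∧ M.index = 2 ∧ u ∉ M := by
  classical
  have : (Q.subgroupOf (P : Subgroup G)).Normal := Subgroup.normal_of_index_eq_two hQi
  have hcard : Nat.card ((P : Subgroup G) ⧸ Q.subgroupOf (P : Subgroup G)) = 2 := by
    rw [← index_eq_card]; exact hQi
  let _ : CommGroup ((P : Subgroup G) ⧸ Q.subgroupOf (P : Subgroup G)) :=
    haveI := isCyclic_of_prime_card hcard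
    IsCyclic.commGroup
  set ϕ := QuotientGroup.mk' (Q.subgroupOf (P : Subgroup G))
  obtain ⟨c, hc, hcu⟩ : ∃ c : (P : Subgroup G) ⧸ Q.subgroupOf (P : Subgroup G), c ≠ 1 ∧
      ∀ d, d ≠ 1 → d = c := by
    obtain ⟨a, b, hab, huniv⟩ := Nat.card_eq_two_iff.mp hcard
    have hall : ∀ d, d = a ∨ d = b := fun d => by
      have hd : d ∈ ({a, b} : Set _) := huniv ▸ Set.mem_univ d
      simpa using hd
    rcases hall 1 with h | h
    · exact ⟨b, fun h' => hab (h.symm.trans h'.symm), fun d hd => (hall d).resolve_left fun hda => hd (hda.trans h.symm)⟩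
    · exact ⟨a, fun h' => hab (h'.trans h), fun d hd => (hall d).resolve_right fun hdb => hd (hdb.trans h.symm)⟩
  have hc2 : c ^ 2 = 1 := by
    have h := pow_card_eq_one' (x := c)
    rwa [hcard] at h
  have : Fintype (Quotient (MulAction.orbitRel (zpowers u) (G ⧸ (P : Subgroup G)))) :=
    Fintype.ofFinite _
  have key : MonoidHom.transfer ϕ u = c ^ (P : Subgroup G).index := by
    rw [MonoidHom.transfer_eq_prod_quotient_orbitRel_zpowers_quot,
      index_eq_sum_minimalPeriod (P : Subgroup G) u, ← Finset.prod_pow_eq_pow_sum]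
    refine Finset.prod_congr rfl fun q _ => ?_
    have hdvd : Function.minimalPeriod (u • ·) q.out ∣ 2 ^ 2 := by
      refine Function.IsPeriodicPt.minimalPeriod_dvd ?_
      show u • u • u • u • q.out = q.out
      rw [smul_smul, smul_smul, smul_smul, show u * u * u * u = u ^ 4 by simp [pow_succ], hu, one_smul]
    obtain ⟨i, hi, h⟩ := (Nat.dvd_prime_pow Nat.prime_two).mp hdvd
    interval_cases i
    · conv_rhs => rw [h, pow_zero, pow_one]
      refine hcu _ fun e => h1 q.out.out⁻¹ ?_
      have h3 := mem_subgroupOf.mp ((QuotientGroup.eq_one_iff _).mp e)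
      rw [inv_inv]
      simpa [h] using h3
    · conv_rhs => rw [h, pow_one, hc2]
      refine (QuotientGroup.eq_one_iff _).mpr (mem_subgroupOf.mpr ?_)
      have hmem : q.out.out⁻¹ * u ^ Function.minimalPeriod (u • ·) q.out * q.out.out ∈ (P : Subgroup G) :=
        QuotientGroup.out_conj_pow_minimalPeriod_mem (P : Subgroup G) u q.out
      rw [h] at hmem
      norm_num [pow_two] at hmem ⊢
      have h3 := h2 q.out.out⁻¹ (by rw [inv_inv]; exact hmem)
      rw [inv_inv] at h3
      simpa [h, pow_two] using h3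
    · conv_rhs => rw [h, show (2 : ℕ) ^ 2 = 2 * 2 from rfl, pow_mul, hc2, one_pow]
      refine (QuotientGroup.eq_one_iff _).mpr (mem_subgroupOf.mpr ?_)
      simp [h, hu]
  have hodd : (P : Subgroup G).index % 2 = 1 := by
    have := P.not_dvd_index
    omega
  have hTu : MonoidHom.transfer ϕ u ≠ 1 := by
    rw [key, ← Nat.div_add_mod (P : Subgroup G).index 2, hodd, pow_add, pow_mul, hc2, one_pow,
      one_mul, pow_one]
    exact hc
  refine ⟨(MonoidHom.transfer ϕ).ker, inferInstance, ?_, hTu⟩
  rw [index_ker]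
  rcases (Nat.dvd_prime Nat.prime_two).mp
    (hcard ▸ card_subgroup_dvd_card (MonoidHom.transfer ϕ).range) with h | h
  · exfalso
    have h' := card_eq_one.mp h
    rw [MonoidHom.range_eq_bot_iff] at h'
    exact hTu (by rw [h']; rfl)
  · exact h

end CfsgLib.PSLOrderSpectrum
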