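import Cfsg.Agent.Lib.OddLocal.NonKappa
import Cfsg.Agent.Lib.Recog.SemidirectSpectrum
import Mathlib.GroupTheory.Transfer

/-!
# Groups with a self-centralizing cyclic Hall subgroup of the type of `PSL(2, q)`

* `relIndex_cyclic_sylow`: the automizer of a cyclic Sylow subgroup read off from Sylow's theorem
* `Torus`: a cyclic Hall subgroup of odd order `A` with cofactor congruent to 2
* `Torus.simple`: without abelian normal subgroups the group is simple
-/

set_option autoImplicit false
set_option linter.all false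

namespace CfsgLib.PSLOrderSpectrum

open Subgroup

variable {G : Type*} [Group G] [Finite G]

/-- The index of the centraliser of a cyclic Sylow subgroup in its normaliser. -/
theorem relIndex_cyclic_sylow {r : ℕ} [hr : Fact r.Prime] (R : Sylow r G) [IsCyclic (R : Subgroup G)]
    (hne : (R : Subgroup G) ≠ ⊥) {c m j : ℕ} (hc : Nat.card (centralizer ((R : Subgroup G) : Set G)) = c)
    (hG : Nat.card G = m * c) (hj : j < r) (hm : m ≡ j [MOD r]) :
    (centralizer ((R : Subgroup G) : Set G)).relIndex (normalizer ((R : Subgroup G) : Set G)) = j := by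
  set e := (centralizer ((R : Subgroup G) : Set G)).relIndex (normalizer ((R : Subgroup G) : Set G)) with he
  have key := card_dvd_of_injective _ (QuotientGroup.kerLift_injective (R : Subgroup G).normalizerMonoidHom)
  rw [normalizerMonoidHom_ker, ← index, ← relIndex, ← he] at key
  rw [IsCyclic.card_mulAut] at key
  obtain ⟨k, hk⟩ := R.2.exists_card_eq
  have hk1 : k ≠ 0 := fun h => hne (card_eq_one.1 (by rw [hk, h, pow_zero]))
  rw [hk, Nat.totient_prime_pow Fact.out (Nat.pos_of_ne_zero hk1)] at key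
  have hcop : e.Coprime r := by
    apply Nat.Coprime.coprime_dvd_left (relIndex_dvd_of_le_left _ R.le_centralizer)
    apply Nat.Coprime.coprime_dvd_left (relIndex_dvd_index_of_le R.le_normalizer)
    rw [Nat.coprime_comm, Nat.Prime.coprime_iff_not_dvd Fact.out]
    exact R.not_dvd_index
  have hed : e ∣ r - 1 := (hcop.pow_right _).dvd_of_dvd_mul_left key
  have hle : centralizer ((R : Subgroup G) : Set G) ≤ normalizer ((R : Subgroup G) : Set G) :=
    centralizer_le_normalizer _
  have hN : c * e = Nat.card (normalizer ((R : Subgroup G) : Set G)) := by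
    rw [he, relIndex, ← hc, ← Nat.card_congr (subgroupOfEquivOfLe hle).toEquiv]
    exact card_mul_index _
  have h1 := (normalizer ((R : Subgroup G) : Set G)).card_mul_index
  rw [← hN, hG] at h1
  have hc0 : 0 < c := hc ▸ Nat.card_pos
  have hm' : m = e * (normalizer ((R : Subgroup G) : Set G)).index := by
    apply Nat.eq_of_mul_eq_mul_right hc0
    rw [← h1]; ring
  have hmod : (normalizer ((R : Subgroup G) : Set G)).index ≡ 1 [MOD r] :=
    R.card_eq_index_normalizer ▸ card_sylow_modEq_one r G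
  have hej : e ≡ j [MOD r] := by
    refine Nat.ModEq.trans ?_ hm
    rw [hm']
    conv_lhs => rw [← mul_one e]
    exact (hmod.mul_left e).symm
  have her : e < r := by
    have := Nat.le_of_dvd (by have := hr.out.two_le; omega) hed
    have := hr.out.two_le
    omega
  have := Nat.ModEq.eq_of_lt_of_lt hej her hj
  exact this

/-- A cyclic group of odd order `A` which contains the centraliser of each of its prime order elements. -/
structure Torus (G : Type*) [Group G] (m A : ℕ) : Prop where
  odd : Odd A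
  one_lt : 1 < A
  card_eq : Nat.card G = m * A
  coprime : m.Coprime A
  modTwo : ∀ r : ℕ, r.Prime → r ∣ A → m ≡ 2 [MOD r]
  exists_gen : ∃ b : G, orderOf b = A
  cent : ∀ z : G, (orderOf z).Prime → orderOf z ∣ A → Nat.card (centralizer ({z} : Set G)) ∣ A

variable {m A : ℕ} (hT : Torus G m A)
include hT

theorem Torus.cent_eq {b : G} (hb : orderOf b = A) {z : G} (hz : z ∈ zpowers b) (hz1 : z ≠ 1) :
    centralizer ({z} : Set G) = zpowers b := by
  obtain ⟨r, hr, hrz⟩ := Nat.exists_prime_and_dvd (fun h => hz1 (orderOf_eq_one_iff.1 h))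
  set z' := z ^ (orderOf z / r) with hz'
  have hz'o : orderOf z' = r := orderOf_pow_orderOf_div (orderOf_pos z).ne' hrz
  have hzA : orderOf z ∣ A := hb ▸ Nat.card_zpowers b ▸ Subgroup.orderOf_dvd_natCard _ hz
  have hbC : ∀ w ∈ zpowers b, b * w = w * b := fun w hw => by
    obtain ⟨i, rfl⟩ := mem_zpowers_iff.1 hw
    exact ((Commute.refl b).zpow_right i).eq
  have hle : ∀ w ∈ zpowers b, zpowers b ≤ centralizer ({w} : Set G) := fun w hw =>
    zpowers_le.2 (mem_centralizer_singleton_iff.2 (hbC w hw))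
  have h1 : zpowers b = centralizer ({z'} : Set G) := by
    refine eq_of_le_of_card_ge (hle z' (pow_mem hz _)) ?_
    rw [Nat.card_zpowers, hb]
    exact Nat.le_of_dvd (by have := hT.one_lt; omega) (hT.cent z' (hz'o ▸ hr) (hz'o ▸ hrz.trans hzA))
  refine le_antisymm (fun g hg => ?_) (hle z hz)
  rw [h1]
  refine mem_centralizer_singleton_iff.2 ?_
  exact (show Commute g z from mem_centralizer_singleton_iff.1 hg).pow_right _

theorem Torus.inverts {b : G} (hb : orderOf b = A) {g : G} (hg : g * b * g⁻¹ ∈ zpowers b)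
    (hg2 : g * g ∈ zpowers b) (hgb : g ∉ zpowers b) : g * b * g⁻¹ = b⁻¹ := by
  obtain ⟨i, hi⟩ := mem_zpowers_iff.1 hg
  obtain ⟨j, hj⟩ := mem_zpowers_iff.1 hg2
  have hcomm : b * b ^ j = b ^ j * b := ((Commute.refl b).zpow_right j).eq
  have hgg : g * (g * b * g⁻¹) * g⁻¹ = b := by
    calc g * (g * b * g⁻¹) * g⁻¹ = g * g * b * (g * g)⁻¹ := by group
      _ = b := by rw [← hj, ← hcomm, mul_inv_cancel_right]
  set d := g * b * g⁻¹ * b with hd
  have hdmem : d ∈ zpowers b := mul_mem hg (mem_zpowers b)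
  have hdg : g * d * g⁻¹ = d := by
    calc g * d * g⁻¹ = g * (g * b * g⁻¹) * g⁻¹ * (g * b * g⁻¹) := by rw [hd]; group
      _ = d := by rw [hgg, hd, ← hi]; exact ((Commute.refl b).zpow_right i).eq
  by_contra hne
  have hd1 : d ≠ 1 := fun h => hne (eq_inv_of_mul_eq_one_left h)
  refine hgb ?_
  rw [← hT.cent_eq hb hdmem hd1]
  exact mem_centralizer_singleton_iff.2 (mul_inv_eq_iff_eq_mul.1 hdg)

/-- Sylow subgroups inside the torus. -/
theorem Torus.sylow_facts {r : ℕ} [hr : Fact r.Prime] (hrA : r ∣ A) (R : Sylow r G) :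
    ∃ b : G, orderOf b = A ∧ (R : Subgroup G) ≤ zpowers b ∧
      centralizer ((R : Subgroup G) : Set G) = zpowers b ∧
      (centralizer ((R : Subgroup G) : Set G)).relIndex (normalizer ((R : Subgroup G) : Set G)) = 2 := by
  obtain ⟨b0, hb0⟩ := hT.exists_gen
  obtain ⟨R0⟩ := (inferInstance : Nonempty (Sylow r (zpowers b0)))
  obtain ⟨Q, hQ⟩ := R0.exists_comap_subtype_eq
  have hrm : ¬ r ∣ m := fun h => hr.out.one_lt.ne' (Nat.eq_one_of_dvd_coprimes hT.coprime h hrA)
  have hA0 : A ≠ 0 := by have := hT.one_lt; omega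
  have hm0 : m ≠ 0 := fun h => by
    have := hT.card_eq
    rw [h, zero_mul] at this
    exact Nat.card_pos.ne' this
  have hQle : (Q : Subgroup G) ≤ zpowers b0 := by
    have h1 : (R0 : Subgroup (zpowers b0)).map (zpowers b0).subtype ≤ (Q : Subgroup G) := by
      rw [map_le_iff_le_comap, hQ]
    have h2 : (R0 : Subgroup (zpowers b0)).map (zpowers b0).subtype = (Q : Subgroup G) := by
      refine eq_of_le_of_card_ge h1 ?_
      rw [card_map_of_injective (zpowers b0).subtype_injective, Q.card_eq_multiplicity, R0.card_eq_multiplicity,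
        Nat.card_zpowers, hb0, hT.card_eq, Nat.factorization_mul hm0 hA0, Finsupp.add_apply,
        Nat.factorization_eq_zero_of_not_dvd hrm, zero_add]
    exact h2 ▸ map_subtype_le _
  obtain ⟨g, hg⟩ := MulAction.exists_smul_eq G Q R
  refine ⟨g * b0 * g⁻¹, ?_, ?_⟩
  · have e := MulEquiv.orderOf_eq (MulAut.conj g) b0
    rw [MulAut.conj_apply] at e
    rw [e, hb0]
  set b := g * b0 * g⁻¹ with hb
  have hbo : orderOf b = A := by
    have e := MulEquiv.orderOf_eq (MulAut.conj g) b0
    rw [MulAut.conj_apply] at e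
    rw [hb, e, hb0]
  have hRle : (R : Subgroup G) ≤ zpowers b := by
    intro x hx
    rw [← hg, Sylow.coe_subgroup_smul] at hx
    obtain ⟨y, hy, rfl⟩ := mem_map.1 hx
    obtain ⟨i, rfl⟩ := mem_zpowers_iff.1 (hQle hy)
    exact mem_zpowers_iff.2 ⟨i, by rw [hb, conj_zpow]; rfl⟩
  have hRne : (R : Subgroup G) ≠ ⊥ := R.ne_bot_of_dvd_card (hT.card_eq ▸ hrA.mul_left m)
  obtain ⟨z, hz, hz1⟩ := (R : Subgroup G).bot_or_exists_ne_one.resolve_left hRne
  have hC : centralizer ((R : Subgroup G) : Set G) = zpowers b := by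
    refine le_antisymm (fun x hx => ?_) (zpowers_le.2 (mem_centralizer_iff.2 fun w hw => ?_))
    · rw [← hT.cent_eq hbo (hRle hz) hz1]
      exact mem_centralizer_singleton_iff.2 (mem_centralizer_iff.1 hx z hz).symm
    · obtain ⟨i, rfl⟩ := mem_zpowers_iff.1 (hRle hw)
      exact ((Commute.refl b).zpow_left i).eq
  refine ⟨hRle, hC, ?_⟩
  haveI : IsCyclic (R : Subgroup G) :=
    isCyclic_of_injective (inclusion hRle) (inclusion_injective hRle)
  refine relIndex_cyclic_sylow R hRne rfl (m := m) ?_ ?_ (hT.modTwo r hr.out hrA)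
  · rw [hC, Nat.card_zpowers, hbo, hT.card_eq]
  · have h2 : r ≠ 2 := fun e => by
      have := (Nat.odd_iff.1 hT.odd)
      rw [e] at hrA
      omega
    have := hr.out.two_le
    omega

/-- Without abelian normal subgroups the group is simple. -/
theorem Torus.simple (noV : ∀ (V : Subgroup G) (s : ℕ), V.Normal → s.Prime → (∀ x y : V, x * y = y * x) →
      (∀ x : V, x ^ s = 1) → V = ⊥) : IsSimpleGroup G := by
  classical
  obtain ⟨b0, hb0⟩ := hT.exists_gen
  haveI : Nontrivial G := ⟨b0, 1, fun h => by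
    rw [h, orderOf_one] at hb0
    exact hT.one_lt.ne hb0⟩
  have hsolv : ∀ K : Subgroup G, K.Normal → Group.IsSolvable K → K = ⊥ := by
    intro K hK hs
    by_contra hKb
    haveI := hK
    obtain ⟨V, s, hVn, hs', hV1, hVc, hVe⟩ := CfsgLib.Recog.Spectrum.exists_elementary_of_solvable K hKb hs
    exact hV1 (noV V s hVn hs' hVc hVe)
  suffices key : ∀ n, ∀ K : Subgroup G, K.Normal → Nat.card K ≤ n → K = ⊥ ∨ K = ⊤ from
    ⟨fun K hK => key _ K hK le_rfl⟩
  intro n
  induction n using Nat.strong_induction_on with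
  | _ n ih =>
  intro K hK hn
  haveI := hK
  by_cases hKb : K = ⊥
  · exact Or.inl hKb
  right
  by_cases hdiv : ∃ r, r.Prime ∧ r ∣ A ∧ r ∣ Nat.card K
  swap
  · -- an element of prime order acts without fixed points
    exfalso
    obtain ⟨r, hr, hrA⟩ := Nat.exists_prime_and_dvd hT.one_lt.ne'
    haveI := Fact.mk hr
    obtain ⟨z, hz⟩ := exists_prime_orderOf_dvd_card' (G := G) r (hT.card_eq ▸ hrA.mul_left m)
    refine hKb (hsolv K hK ?_)
    haveI := CfsgLib.OddLocal.NonKappa.isNilpotent_of_fpf_elem (N := K) hz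
      (normalizer_eq_top (H := K) ▸ mem_top z) (eq_bot_iff.2 fun x hx => by
        by_contra hx1
        obtain ⟨ℓ, hℓ, hℓx⟩ := Nat.exists_prime_and_dvd (fun h => hx1 (mem_bot.2 (orderOf_eq_one_iff.1 h)))
        exact hdiv ⟨ℓ, hℓ, hℓx.trans ((Subgroup.orderOf_dvd_natCard _ hx.2).trans
          (hT.cent z (hz ▸ hr) (hz ▸ hrA))), hℓx.trans (Subgroup.orderOf_dvd_natCard _ hx.1)⟩)
    infer_instance
  obtain ⟨r, hr, hrA, hrK⟩ := hdiv
  haveI := Fact.mk hr
  obtain ⟨P⟩ := (inferInstance : Nonempty (Sylow r K))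
  obtain ⟨Q, hQ⟩ := P.exists_comap_subtype_eq
  obtain ⟨b, hb, hQb, hCQ, hQ2⟩ := hT.sylow_facts hrA Q
  set P' := (P : Subgroup K).map K.subtype with hP'
  have hP'Q : P' ≤ (Q : Subgroup G) := by rw [hP', map_le_iff_le_comap, hQ]
  have hP'ne : P' ≠ ⊥ := by
    rw [Ne, hP', map_eq_bot_iff_of_injective _ K.subtype_injective]
    exact P.ne_bot_of_dvd_card hrK
  by_cases hcent : ∀ k ∈ K, k ∈ normalizer (P' : Set G) → k ∈ zpowers b
  · -- transfer
    exfalso
    have hle : normalizer ((P : Subgroup K) : Set K) ≤ centralizer ((P : Subgroup K) : Set K) := by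
      intro k hk
      have hkN : (k : G) ∈ normalizer (P' : Set G) := by
        have h := (Subgroup.le_normalizer_map (H := (P : Subgroup K)) K.subtype) (mem_map_of_mem _ hk)
        exact h
      refine mem_centralizer_iff.2 fun x hx => Subtype.ext ?_
      obtain ⟨i, hi⟩ := mem_zpowers_iff.1 (hQb (hP'Q (mem_map_of_mem _ hx)))
      obtain ⟨j, hj⟩ := mem_zpowers_iff.1 (hcent k k.2 hkN)
      simp only [coe_subtype] at hi
      rw [coe_mul, coe_mul, ← hi, ← hj]
      exact ((Commute.refl b).zpow_zpow i j).eq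
    set f := MonoidHom.transferSylow P hle with hf
    have hc : IsComplement' f.ker (P : Subgroup K) := MonoidHom.ker_transferSylow_isComplement' P hle
    have hMn : (f.ker.map K.subtype).Normal := by
      refine ⟨fun x hx g => ?_⟩
      obtain ⟨y, hy, rfl⟩ := mem_map.1 hx
      refine mem_map.2 ⟨⟨g * y * g⁻¹, hK.conj_mem y y.2 g⟩, ?_, rfl⟩
      have hnd : ¬ r ∣ Nat.card f.ker := MonoidHom.not_dvd_card_ker_transferSylow P hle
      have hyo : ¬ r ∣ orderOf (⟨g * y * g⁻¹, hK.conj_mem y y.2 g⟩ : K) := by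
        rw [← orderOf_coe]
        show ¬ r ∣ orderOf (MulAut.conj g (y : G))
        rw [MulEquiv.orderOf_eq, orderOf_coe]
        exact fun h => hnd (h.trans (Subgroup.orderOf_dvd_natCard _ hy))
      rw [MonoidHom.mem_ker]
      obtain ⟨k, hk⟩ := IsPGroup.iff_orderOf.1 P.2 (f ⟨g * y * g⁻¹, hK.conj_mem y y.2 g⟩)
      have h1 : orderOf (f ⟨g * y * g⁻¹, hK.conj_mem y y.2 g⟩) ∣ orderOf (⟨g * y * g⁻¹, hK.conj_mem y y.2 g⟩ : K) :=
        orderOf_map_dvd f _
      rw [hk] at h1
      rcases Nat.eq_zero_or_pos k with rfl | hk0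
      · exact orderOf_eq_one_iff.1 (by simpa using hk)
      · exact absurd ((dvd_pow_self r hk0.ne').trans h1) hyo
    have hlt : Nat.card (f.ker.map K.subtype : Subgroup G) < Nat.card K := by
      refine lt_of_le_of_ne (card_le_of_le (map_subtype_le _)) fun e => ?_
      rw [card_map_of_injective K.subtype_injective] at e
      exact MonoidHom.not_dvd_card_ker_transferSylow P hle (e ▸ hrK)
    rcases ih _ (lt_of_lt_of_le hlt hn) _ hMn le_rfl with hM | hM
    · rw [map_eq_bot_iff_of_injective _ K.subtype_injective] at hM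
      rw [hM] at hc
      have htop : (P : Subgroup K) = ⊤ := isComplement'_bot_left.1 hc
      refine hKb (hsolv K hK ?_)
      haveI : Group.IsNilpotent K := by
        haveI : Group.IsNilpotent (P : Subgroup K) := P.2.isNilpotent
        exact Group.nilpotent_of_mulEquiv ((MulEquiv.subgroupCongr htop).trans topEquiv)
      infer_instance
    · rw [hM] at hlt
      exact absurd (card_le_card_group K) (by rw [card_top] at hlt; omega)
  -- an element of `K` inverting the torus
  push Not at hcent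
  obtain ⟨k, hkK, hkN, hkb⟩ := hcent
  obtain ⟨z, hz, hz1⟩ := P'.bot_or_exists_ne_one.resolve_left hP'ne
  have hCz := hT.cent_eq hb (hQb (hP'Q hz)) hz1
  have hnormb : ∀ w ∈ zpowers b, k * w * k⁻¹ ∈ zpowers b := by
    intro w hw
    have hkz : k * z * k⁻¹ ∈ P' := (mem_normalizer_iff.1 hkN z).1 hz
    have hz1' : k * z * k⁻¹ ≠ 1 := fun h => hz1 (by simpa using h)
    rw [← hT.cent_eq hb (hQb (hP'Q hkz)) hz1', mem_centralizer_singleton_iff]
    have hwz : w * z = z * w := mem_centralizer_singleton_iff.1 (hCz.ge hw)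
    calc k * w * k⁻¹ * (k * z * k⁻¹) = k * (w * z) * k⁻¹ := by group
      _ = k * z * k⁻¹ * (k * w * k⁻¹) := by rw [hwz]; group
  have hkNQ : k ∈ normalizer ((Q : Subgroup G) : Set G) := by
    haveI : IsCyclic (zpowers b) := inferInstance
    rw [mem_normalizer_iff]
    have hfwd : ∀ y ∈ (Q : Subgroup G), k * y * k⁻¹ ∈ (Q : Subgroup G) := by
      intro y hy
      have hmem := hnormb y (hQb hy)
      have hp : IsPGroup r (zpowers (k * y * k⁻¹) : Subgroup G) := by
        obtain ⟨i, hi⟩ := IsPGroup.iff_orderOf.1 Q.2 ⟨y, hy⟩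
        refine IsPGroup.of_card (n := i) ?_
        rw [Nat.card_zpowers, show k * y * k⁻¹ = MulAut.conj k y from rfl, MulEquiv.orderOf_eq,
          ← hi, Subgroup.orderOf_mk]
      have hcomm : ((Q : Subgroup G) ⊔ zpowers (k * y * k⁻¹)) ≤ zpowers b := sup_le hQb (zpowers_le.2 hmem)
      have hnorm : zpowers (k * y * k⁻¹) ≤ normalizer ((Q : Subgroup G) : Set G) := by
        refine (zpowers_le.2 hmem).trans (le_trans ?_ (centralizer_le_normalizer _))
        rw [hCQ]
      have h2 := Q.3 (IsPGroup.to_sup_of_normal_left' Q.2 hp hnorm) le_sup_left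
      exact h2.le ((le_sup_right : zpowers (k * y * k⁻¹) ≤ _) (mem_zpowers _) : k * y * k⁻¹ ∈ (Q : Subgroup G) ⊔ zpowers (k * y * k⁻¹))
    refine fun y => ⟨hfwd y, fun hy => ?_⟩
    have hbij : ∀ i : ℕ, ∀ x ∈ (Q : Subgroup G), k ^ i * x * (k ^ i)⁻¹ ∈ (Q : Subgroup G) := by
      intro i
      induction i with
      | zero => intro x hx; simpa using hx
      | succ i ihi =>
        intro x hx
        rw [pow_succ']
        convert hfwd _ (ihi x hx) using 1
        group
    have h := hbij (orderOf k - 1) _ hy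
    have e : k ^ (orderOf k - 1) * k = 1 := by
      rw [← pow_succ, Nat.sub_add_cancel (orderOf_pos k), pow_orderOf_eq_one]
    convert h using 1
    calc y = (k ^ (orderOf k - 1) * k) * y * (k ^ (orderOf k - 1) * k)⁻¹ := by rw [e]; group
      _ = _ := by group
  -- the normaliser of the torus lies in `K`
  rw [relIndex, hCQ] at hQ2
  have hsqmem : ∀ g ∈ normalizer ((Q : Subgroup G) : Set G), g * g ∈ zpowers b := fun g hg => by
    exact mul_self_mem_of_index_two hQ2 ⟨g, hg⟩
  have hinv := hT.inverts hb (hnormb b (mem_zpowers b)) (hsqmem k hkNQ) hkb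
  have hbK : b ∈ K := by
    have h2 : b⁻¹ * b⁻¹ ∈ K := by
      have h := mul_mem hkK (hK.conj_mem _ (inv_mem hkK) b)
      convert h using 1
      calc b⁻¹ * b⁻¹ = (k * b * k⁻¹) * b⁻¹ := by rw [hinv]
        _ = _ := by group
    obtain ⟨c, hc⟩ := hT.odd
    have h3 : (b⁻¹ * b⁻¹) ^ (c + 1) = b⁻¹ := by
      rw [← pow_two, ← pow_mul, show 2 * (c + 1) = A + 1 by omega, pow_succ,
        show b⁻¹ ^ A = 1 by rw [inv_pow, ← hb, pow_orderOf_eq_one, inv_one], one_mul]
    exact inv_mem_iff.1 (h3 ▸ pow_mem h2 _)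
  have hNK : normalizer ((Q : Subgroup G) : Set G) ≤ K := by
    intro g hg
    by_cases hgb : g ∈ zpowers b
    · exact zpowers_le.2 hbK hgb
    · have h1 : k * g ∈ zpowers b := by
        have := (mul_mem_iff_of_index_two hQ2 (a := ⟨k, hkNQ⟩) (b := ⟨g, hg⟩)).2
        simp only [mem_subgroupOf] at this
        exact this ⟨fun h => absurd h hkb, fun h => absurd h hgb⟩
      have := mul_mem (inv_mem hkK) (zpowers_le.2 hbK h1)
      simpa using this
  have hQK : (Q : Subgroup G) ≤ K := le_trans Q.le_normalizer hNK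
  have h := Sylow.normalizer_sup_eq_top' Q hQK
  exact (sup_eq_right.2 hNK).symm.trans h

end CfsgLib.PSLOrderSpectrum
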