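import Cfsg.Agent.Lib.Recog.PSLOrderSpectrum.Setup
import Cfsg.Agent.Lib.Recog.PSLOrderSpectrum.TransferFour
import Cfsg.Agent.Lib.TwoGroups.Recognition
import Cfsg.Agent.S0215
import Cfsg.Agent.S0508

/-!
# The involution centraliser of a group with the order and spectrum of `PSL(2, q)`, `q` odd
-/

set_option autoImplicit false
set_option linter.all false

namespace CfsgLib.PSLOrderSpectrum

open Subgroup

variable {G : Type*} [Group G] [Finite G]

omit [Finite G] in
theorem orderOf_conjugate (g x : G) : orderOf (g * x * g⁻¹) = orderOf x := by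
  rw [← MulAut.conj_apply]; exact MulEquiv.orderOf_eq (MulAut.conj g) x

theorem card_mul_relIndex_of_le {H K : Subgroup G} (hle : H ≤ K) :
    Nat.card H * H.relIndex K = Nat.card K := by
  rw [relIndex, ← Nat.card_congr (subgroupOfEquivOfLe hle).toEquiv]
  exact card_mul_index _

/-- An element of a finite cyclic group killed by `j` lies in the subgroup generated by `a ^ (T / j)`. -/
theorem mem_zpowers_pow_of_pow_eq_one {a : G} {j m : ℕ} (hj : 0 < j) (ha : orderOf a = j * m) {y : G}
    (hy : y ∈ zpowers a) (hy1 : y ^ j = 1) : y ∈ zpowers (a ^ m) := by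
  obtain ⟨i, rfl⟩ := mem_powers_iff_mem_zpowers.2 hy
  simp only at hy1 ⊢
  rw [← pow_mul, ← orderOf_dvd_iff_pow_eq_one, ha, mul_comm i] at hy1
  obtain ⟨k, rfl⟩ := (Nat.mul_dvd_mul_iff_left hj).1 hy1
  exact ⟨k, by simp only [zpow_natCast, ← pow_mul]⟩

/-- A cyclic group has one involution. -/
theorem involution_unique {a x y : G} (hx : x ∈ zpowers a) (hy : y ∈ zpowers a)
    (hx2 : orderOf x = 2) (hy2 : orderOf y = 2) : x = y := by
  have h2 : 2 ∣ orderOf a := hx2 ▸ Nat.card_zpowers a ▸ Subgroup.orderOf_dvd_natCard _ hx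
  obtain ⟨m, hm⟩ := h2
  have key : ∀ w ∈ zpowers a, orderOf w = 2 → w = a ^ m := by
    intro w hw hw2
    have h1 := mem_zpowers_pow_of_pow_eq_one two_pos hm hw (hw2 ▸ pow_orderOf_eq_one w)
    obtain ⟨i, rfl⟩ := mem_powers_iff_mem_zpowers.2 h1
    simp only at hw2 ⊢
    have h3 : (a ^ m) ^ 2 = 1 := by rw [← pow_mul, mul_comm, ← hm, pow_orderOf_eq_one]
    rcases Nat.even_or_odd i with ⟨k, rfl⟩ | ⟨k, rfl⟩
    · rw [← two_mul, pow_mul, h3, one_pow, orderOf_one] at hw2; omega
    · show (a ^ m) ^ (2 * k + 1) = a ^ m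
      rw [pow_succ, pow_mul, h3, one_pow, one_mul]
  rw [key x hx hx2, key y hy hy2]

namespace OddSetup

variable {q p T A : ℕ} (h : OddSetup G q p T A)
include h

theorem no_index_two (M : Subgroup G) (hM : M.Normal) (hi : M.index = 2) : False := by
  haveI := h.simple
  rcases hM.eq_bot_or_eq_top with e | e
  · rw [e, index_bot, h.card_eq] at hi
    have h1 : 3 * 4 ≤ A * (2 * T) := Nat.mul_le_mul h.A_ge (by have := h.T_ge; omega)
    have h2 := Nat.mul_le_mul h.q_ge h1
    rw [mul_assoc] at hi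
    omega
  · rw [e, index_top] at hi; omega

theorem center_trivial {u : G} (hu : orderOf u = 2) (hc : ∀ g : G, g * u = u * g) : False := by
  have h1 : Nat.card (centralizer ({u} : Set G)) = Nat.card G := by
    rw [(eq_top_iff.2 fun g _ => mem_centralizer_singleton_iff.2 (hc g) : centralizer ({u} : Set G) = ⊤), card_top]
  have h2 := h.cent_T Nat.prime_two hu h.even_T
  rw [h1, h.card_eq] at h2
  have h3 := Nat.le_of_dvd (by have := h.T_ge; omega) h2
  have hqA : 15 ≤ q * A := Nat.mul_le_mul h.q_ge h.A_ge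
  have := h.T_ge
  nlinarith

/-- A subgroup of index at most two over the cyclic group of order `T` normalises it. -/
theorem conj_mem {a : G} (ha : orderOf a = T) {H : Subgroup G} (hH : zpowers a ≤ H)
    (hc : Nat.card H ∣ 2 * T) {x : G} (hx : x ∈ H) {y : G} (hy : y ∈ zpowers a) :
    x * y * x⁻¹ ∈ zpowers a ∧ x * x ∈ zpowers a := by
  have hT := h.T_ge
  have e := card_mul_relIndex_of_le hH
  rw [Nat.card_zpowers, ha] at e
  have hd : (zpowers a).relIndex H ∣ 2 := by
    rw [← e, mul_comm 2 T] at hc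
    exact (Nat.mul_dvd_mul_iff_left (by omega)).1 hc
  rcases (Nat.dvd_prime Nat.prime_two).1 hd with e1 | e2
  · have hle : H ≤ zpowers a := relIndex_eq_one.1 e1
    exact ⟨mul_mem (mul_mem (hle hx) hy) (inv_mem (hle hx)), mul_mem (hle hx) (hle hx)⟩
  · have hn := normal_of_index_eq_two (H := (zpowers a).subgroupOf H) e2
    exact ⟨hn.conj_mem ⟨y, hH hy⟩ hy ⟨x, hx⟩, mul_self_mem_of_index_two (H := (zpowers a).subgroupOf H) e2 ⟨x, hx⟩⟩

theorem le_centralizer_involution {a t : G} (ha : orderOf a = T) (ht : t ∈ zpowers a) (ht2 : orderOf t = 2)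
    {H : Subgroup G} (hH : zpowers a ≤ H) (hc : Nat.card H ∣ 2 * T) : H ≤ centralizer ({t} : Set G) := by
  intro x hx
  have e := involution_unique ((h.conj_mem ha hH hc hx ht).1) ht ((orderOf_conjugate x t).trans ht2) ht2
  exact mem_centralizer_singleton_iff.2 (mul_inv_eq_iff_eq_mul.1 e)

/-- All involutions are conjugate. -/
theorem involutions_conj {a t : G} (ha : orderOf a = T) (ht : t ∈ zpowers a) (ht2 : orderOf t = 2)
    {u : G} (hu : orderOf u = 2) : ∃ g : G, g * u * g⁻¹ = t := by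
  classical
  haveI : Fact (Nat.Prime 2) := ⟨Nat.prime_two⟩
  have hT := h.T_ge
  set s := T.factorization 2 with hs
  set m := T / 2 ^ s
  have hTm : T = 2 ^ s * m := (Nat.mul_div_cancel' (Nat.ordProj_dvd T 2)).symm
  have hco : orderOf (a ^ m) = 2 ^ s := by
    rw [orderOf_pow_of_dvd (by intro e; rw [e, mul_zero] at hTm; omega) (ha ▸ ⟨2 ^ s, by rw [mul_comm]; exact hTm⟩),
      ha, hTm, Nat.mul_div_cancel _ (Nat.pos_of_ne_zero (by intro e; rw [e, mul_zero] at hTm; omega))]
  obtain ⟨P, hP⟩ := IsPGroup.exists_le_sylow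
    (IsPGroup.of_card (p := 2) (G := zpowers (a ^ m)) (n := s) (by rw [Nat.card_zpowers, hco]))
  have hQi : (zpowers (a ^ m)).relIndex (P : Subgroup G) = 2 := by
    have e := card_mul_relIndex_of_le hP
    rw [Nat.card_zpowers, hco, P.card_eq_multiplicity, h.card_eq, ← mul_assoc, Nat.mul_right_comm _ 2 T] at e
    have hodd : ¬ 2 ∣ q * A := by
      rw [Nat.dvd_mul]
      rintro ⟨y, z, hy, hz, hyz⟩
      have h1 := h.cop.2.2.2
      have h2 := Nat.odd_iff.1 h.odd_A
      rcases (Nat.dvd_prime Nat.prime_two).1 (hyz ▸ dvd_mul_right y z : y ∣ 2) with rfl | rfl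
      · rw [one_mul] at hyz; subst hyz; omega
      · exact absurd (Nat.eq_one_of_dvd_coprimes h1 hy dvd_rfl) (by norm_num)
    have hne : q * A ≠ 0 := fun e => hodd (e ▸ dvd_zero 2)
    rw [Nat.factorization_mul (mul_ne_zero hne (by omega)) (by omega), Nat.factorization_mul hne (by omega),
      Finsupp.add_apply, Finsupp.add_apply, Nat.factorization_eq_zero_of_not_dvd hodd,
      Nat.Prime.factorization_self Nat.prime_two, ← hs, zero_add, pow_add, pow_one] at e
    exact Nat.eq_of_mul_eq_mul_left (pow_pos two_pos s) e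
  rcases CfsgLib.Transfer.thompson_transfer P (zpowers (a ^ m)) hQi hu with ⟨M, hM, hi, -⟩ | ⟨g, hg⟩
  · exact (h.no_index_two M hM hi).elim
  · exact ⟨g, involution_unique (zpowers_le.2 (pow_mem (mem_zpowers a) m) hg) ht
      ((orderOf_conjugate g u).trans hu) ht2⟩

theorem card_centralizer_involution {a t : G} (ha : orderOf a = T) (ht : t ∈ zpowers a) (ht2 : orderOf t = 2) :
    Nat.card (centralizer ({t} : Set G)) = 2 * T := by
  classical
  haveI : Fact (Nat.Prime 2) := ⟨Nat.prime_two⟩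
  have hd := h.cent_T Nat.prime_two ht2 h.even_T
  refine Nat.dvd_antisymm hd ?_
  obtain ⟨P⟩ := (inferInstance : Nonempty (Sylow 2 G))
  haveI : Nontrivial (P : Subgroup G) :=
    (nontrivial_iff_ne_bot _).2 (P.ne_bot_of_dvd_card (h.card_eq ▸ (dvd_mul_right 2 T).mul_left (q * A)))
  obtain ⟨z, hz⟩ := exists_prime_orderOf_dvd_card' 2
    (show 2 ∣ Nat.card (center (P : Subgroup G)) by
      obtain ⟨n, hn, hcard⟩ := P.2.center_nontrivial |> fun _ =>
        (IsPGroup.iff_card.1 (P.2.to_subgroup (center (P : Subgroup G)))) |> fun ⟨n, hn⟩ => (⟨n, by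
          haveI := P.2.center_nontrivial
          intro e; rw [e, pow_zero] at hn; exact Finite.one_lt_card.ne' hn, hn⟩ : ∃ n, n ≠ 0 ∧ _ = 2 ^ n)
      exact hcard ▸ dvd_pow_self 2 hn)
  have hzo : orderOf (((z : (P : Subgroup G)) : G)) = 2 := by
    rw [orderOf_coe, orderOf_coe, hz]
  obtain ⟨g, hg⟩ := h.involutions_conj ha ht ht2 hzo
  have hPle : (P : Subgroup G).map (MulAut.conj g).toMonoidHom ≤ centralizer ({t} : Set G) := by
    rintro _ ⟨x, hx, rfl⟩
    refine mem_centralizer_singleton_iff.2 ?_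
    have hc := congrArg Subtype.val (mem_center_iff.1 z.2 ⟨x, hx⟩)
    simp only [MulEquiv.coe_toMonoidHom, MulAut.conj_apply]
    rw [← hg]
    simp only [Subgroup.coe_mul] at hc
    calc g * x * g⁻¹ * (g * ((z : (P : Subgroup G)) : G) * g⁻¹) = g * (x * ((z : (P : Subgroup G)) : G)) * g⁻¹ := by group
      _ = _ := by rw [hc]; group
  have h1 : 2 ^ (2 * T).factorization 2 ∣ Nat.card (centralizer ({t} : Set G)) := by
    have e := card_dvd_of_le hPle
    rw [card_map_of_injective (MulAut.conj g).injective, P.card_eq_multiplicity] at e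
    refine (pow_dvd_pow 2 ?_).trans e
    exact (Nat.factorization_le_iff_dvd (by have := h.T_ge; omega) Nat.card_pos.ne').2
      (h.card_eq ▸ dvd_mul_left (2 * T) (q * A)) 2
  have h2 : T ∣ Nat.card (centralizer ({t} : Set G)) := by
    rw [← ha, ← Nat.card_zpowers]
    refine card_dvd_of_le (zpowers_le.2 (mem_centralizer_singleton_iff.2 ?_))
    obtain ⟨i, rfl⟩ := mem_zpowers_iff.1 ht
    exact ((Commute.refl a).zpow_right i).eq
  obtain ⟨k, hk⟩ := h2
  rcases Nat.even_or_odd k with ⟨l, rfl⟩ | hk'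
  · exact ⟨l, by rw [hk]; ring⟩
  · exfalso
    rw [hk] at h1
    have hT0 : T ≠ 0 := by have := h.T_ge; omega
    have hk0 : k ≠ 0 := hk'.pos.ne'
    have := (Nat.Prime.pow_dvd_iff_le_factorization Nat.prime_two (mul_ne_zero hT0 hk0)).1 h1
    rw [Nat.factorization_mul hT0 hk0, Nat.factorization_mul two_ne_zero hT0, Finsupp.add_apply, Finsupp.add_apply,
      Nat.Prime.factorization_self Nat.prime_two,
      Nat.factorization_eq_zero_of_not_dvd (fun e => by have := Nat.odd_iff.1 hk'; omega : ¬ 2 ∣ k)] at this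
    omega

/-- A Sylow 2-subgroup of the involution centraliser is dihedral. -/
theorem exists_dihedral_sylow {a t : G} (ha : orderOf a = T) (ht : t ∈ zpowers a) (ht2 : orderOf t = 2) :
    ∃ (S : Sylow 2 G) (n : ℕ) (c : G), 2 ≤ n ∧ Nonempty ((S : Subgroup G) ≃* DihedralGroup n) ∧
      (S : Subgroup G) ≤ centralizer ({t} : Set G) ∧ c ∈ zpowers a ∧ t ∈ zpowers c ∧
      (S : Subgroup G) ⊓ zpowers a = zpowers c ∧ (zpowers c).relIndex (S : Subgroup G) = 2 := by
  classical
  haveI : Fact (Nat.Prime 2) := ⟨Nat.prime_two⟩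
  have hT := h.T_ge
  set C := centralizer ({t} : Set G) with hC
  have hCc : Nat.card C = 2 * T := h.card_centralizer_involution ha ht ht2
  have hKC : zpowers a ≤ C := by
    refine zpowers_le.2 (mem_centralizer_singleton_iff.2 ?_)
    obtain ⟨i, rfl⟩ := mem_zpowers_iff.1 ht
    exact ((Commute.refl a).zpow_right i).eq
  set s := T.factorization 2 with hs
  have hs1 : 1 ≤ s := (Nat.Prime.dvd_iff_one_le_factorization Nat.prime_two (by omega)).1 h.even_T
  set m := T / 2 ^ s
  have hTm : T = 2 ^ s * m := (Nat.mul_div_cancel' (Nat.ordProj_dvd T 2)).symm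
  have hm0 : m ≠ 0 := fun e => by rw [e, mul_zero] at hTm; omega
  set c := a ^ m with hcdef
  have hco : orderOf c = 2 ^ s := by
    rw [orderOf_pow_of_dvd hm0 (ha ▸ ⟨2 ^ s, by rw [mul_comm]; exact hTm⟩), ha, hTm,
      Nat.mul_div_cancel _ (Nat.pos_of_ne_zero hm0)]
  have hcK : c ∈ zpowers a := pow_mem (mem_zpowers a) m
  have hcomm : ∀ y ∈ zpowers a, c * y = y * c := fun y hy => by
    obtain ⟨i, rfl⟩ := mem_zpowers_iff.1 hy
    exact ((Commute.refl a).pow_left m |>.zpow_right i).eq
  obtain ⟨S0, hS0⟩ := IsPGroup.exists_le_sylow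
    ((IsPGroup.of_card (p := 2) (G := zpowers c) (n := s) (by rw [Nat.card_zpowers, hco])).of_equiv
      (subgroupOfEquivOfLe (show zpowers c ≤ C from (zpowers_le.2 hcK).trans hKC)).symm)
  have hScard : Nat.card ((S0 : Subgroup C).map C.subtype) = 2 ^ (Nat.card G).factorization 2 := by
    rw [card_map_of_injective C.subtype_injective, S0.card_eq_multiplicity, hCc, h.card_eq]
    congr 1
    have hne : q * A ≠ 0 := mul_ne_zero (by have := h.q_ge; omega) (by have := h.A_ge; omega)
    rw [Nat.factorization_mul hne (by omega), Finsupp.add_apply,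
      Nat.factorization_eq_zero_of_not_dvd (fun e => ?_ : ¬ 2 ∣ q * A), zero_add]
    rcases Nat.prime_two.dvd_mul.1 e with e | e
    · exact absurd (Nat.eq_one_of_dvd_coprimes h.cop.2.2.2 e dvd_rfl) (by norm_num)
    · have := Nat.odd_iff.1 h.odd_A; omega
  set S : Sylow 2 G := Sylow.ofCard _ hScard
  have hSeq : (S : Subgroup G) = (S0 : Subgroup C).map C.subtype := rfl
  have hSC : (S : Subgroup G) ≤ C := hSeq ▸ map_subtype_le _
  have hcS : c ∈ (S : Subgroup G) := hSeq ▸ ⟨⟨c, hKC hcK⟩, hS0 (mem_zpowers c), rfl⟩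
  have hScard' : Nat.card (S : Subgroup G) = 2 ^ s * 2 := by
    rw [hSeq, card_map_of_injective C.subtype_injective, S0.card_eq_multiplicity, hCc,
      Nat.factorization_mul two_ne_zero (by omega), Finsupp.add_apply, Nat.Prime.factorization_self Nat.prime_two,
      pow_add, pow_one, mul_comm, hs]
  have hcle : zpowers c ≤ (S : Subgroup G) := zpowers_le.2 hcS
  have hrel : (zpowers c).relIndex (S : Subgroup G) = 2 := by
    have e := card_mul_relIndex_of_le hcle
    rw [Nat.card_zpowers, hco, hScard'] at e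
    exact Nat.eq_of_mul_eq_mul_left (pow_pos two_pos s) e
  have hinf : (S : Subgroup G) ⊓ zpowers a = zpowers c := by
    refine le_antisymm (fun y hy => ?_) (le_inf hcle (zpowers_le.2 hcK))
    refine mem_zpowers_pow_of_pow_eq_one (pow_pos two_pos s) (ha.trans hTm) hy.2 ?_
    obtain ⟨k, hk⟩ := (Nat.dvd_prime_pow Nat.prime_two).1 (hScard'.trans (pow_succ 2 s).symm ▸
      Subgroup.orderOf_dvd_natCard _ hy.1)
    rw [← orderOf_dvd_iff_pow_eq_one, hk.2, hs]
    refine pow_dvd_pow 2 ((Nat.Prime.pow_dvd_iff_le_factorization Nat.prime_two (by omega)).1 ?_)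
    rw [← hk.2, ← ha, ← Nat.card_zpowers a]
    exact Subgroup.orderOf_dvd_natCard _ hy.2
  have htS : t ∈ zpowers c := by
    have e : orderOf (c ^ 2 ^ (s - 1)) = 2 := by
      rw [orderOf_pow_of_dvd (pow_pos two_pos _).ne' (hco ▸ pow_dvd_pow 2 (Nat.sub_le s 1)), hco,
        Nat.pow_div (Nat.sub_le s 1) two_pos, show s - (s - 1) = 1 by omega, pow_one]
    rw [involution_unique ht (pow_mem hcK _) ht2 e]
    exact pow_mem (mem_zpowers c) _
  -- an involution outside the cyclic part
  obtain ⟨x, hxS, hx2, hxc⟩ : ∃ x ∈ (S : Subgroup G), orderOf x = 2 ∧ x ∉ zpowers c := by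
    by_contra hne
    push Not at hne
    obtain ⟨N, hN, hodd, hmem⟩ := Cfsg.Agent.S0215.result S t ht2 (hcle htS) (fun g hg =>
      involution_unique (zpowers_le.2 hcK (hne _ hg ((orderOf_conjugate g t).trans ht2))) ht
        ((orderOf_conjugate g t).trans ht2) ht2)
    haveI := h.simple
    rcases hN.eq_bot_or_eq_top with e | e
    · refine h.center_trivial ht2 fun g => ?_
      have h1 := hmem g
      rw [e, mem_bot, mul_inv_eq_one, mul_inv_eq_iff_eq_mul] at h1
      exact h1.symm
    · rw [e, card_top, h.card_eq, Nat.odd_mul] at hodd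
      exact absurd hodd.2 (by rw [Nat.odd_mul]; exact fun e => absurd e.1 (by decide))
  have hxK : x ∉ zpowers a := fun e => hxc (hinf ▸ ⟨hxS, e⟩)
  have hxx : x * x = 1 := by rw [← pow_two, ← hx2, pow_orderOf_eq_one]
  have hxinv : x⁻¹ = x := inv_eq_of_mul_eq_one_right hxx
  have hxC : x ∈ C := hSC hxS
  have hCd : Nat.card C ∣ 2 * T := hCc ▸ dvd_rfl
  have hnorm : ∀ y ∈ zpowers c, x * y * x⁻¹ ∈ zpowers c := fun y hy => by
    haveI := normal_of_index_eq_two (H := (zpowers c).subgroupOf (S : Subgroup G)) hrel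
    exact this.conj_mem ⟨y, hcle hy⟩ hy ⟨x, hxS⟩
  have htc : c * t = t * c := hcomm t ht
  have htt : t * t = 1 := by rw [← pow_two, ← ht2, pow_orderOf_eq_one]
  -- no element of order four of the cyclic part commutes with `x`
  have hfour : ∀ w ∈ zpowers c, x * w * x⁻¹ = w → w * w = 1 := by
    intro w hw hwx
    by_contra hne
    obtain ⟨k, hk⟩ := (Nat.dvd_prime_pow Nat.prime_two).1 (hco ▸ Nat.card_zpowers c ▸ Subgroup.orderOf_dvd_natCard _ hw)
    have hk2 : 2 ≤ k := by
      by_contra hlt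
      refine hne ?_
      rw [← pow_two, ← orderOf_dvd_iff_pow_eq_one, hk.2]
      exact (pow_dvd_pow 2 (show k ≤ 1 by omega)).trans (by norm_num)
    set v := w ^ 2 ^ (k - 2) with hv
    have hvo : orderOf v = 2 ^ 2 := by
      rw [hv, orderOf_pow_of_dvd (pow_pos two_pos _).ne' (hk.2 ▸ pow_dvd_pow 2 (Nat.sub_le k 2)), hk.2,
        Nat.pow_div (Nat.sub_le k 2) two_pos, show k - (k - 2) = 2 by omega]
    have hv2 : v * v = t := by
      refine involution_unique (a := a) ?_ ht ?_ ht2
      · exact mul_mem (pow_mem (zpowers_le.2 hcK hw) _) (pow_mem (zpowers_le.2 hcK hw) _)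
      · rw [← pow_two, orderOf_pow_of_dvd two_ne_zero (hvo ▸ ⟨2, rfl⟩), hvo]; norm_num
    obtain ⟨g, hg⟩ := h.involutions_conj ha ht ht2 hx2
    have hvx : v * x = x * v := by
      rw [hv]
      exact (show Commute w x from (mul_inv_eq_iff_eq_mul.1 hwx).symm).pow_left _
    have hgv : g * v * g⁻¹ ∈ C := mem_centralizer_singleton_iff.2 (by
      rw [← hg]
      calc g * v * g⁻¹ * (g * x * g⁻¹) = g * (v * x) * g⁻¹ := by group
        _ = _ := by rw [hvx]; group)
    have h1 := (h.conj_mem ha hKC hCd hgv ht).2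
    rw [show g * v * g⁻¹ * (g * v * g⁻¹) = g * (v * v) * g⁻¹ by group, hv2] at h1
    have h2 := involution_unique h1 ht ((orderOf_conjugate g t).trans ht2) ht2
    refine hxK ?_
    have : x = t := by
      have e : x = g⁻¹ * (g * x * g⁻¹) * g := by group
      rw [e, hg]
      conv_lhs => arg 1; arg 2; rw [← h2]
      group
    exact this ▸ ht
  have hxcx : x * c * x⁻¹ = c⁻¹ := by
    set d := x * c * x⁻¹ * c with hd
    have hdmem : d ∈ zpowers c := mul_mem (hnorm c (mem_zpowers c)) (mem_zpowers c)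
    have hdx : x * d * x⁻¹ = d := by
      have e : x * (x * c * x⁻¹) * x⁻¹ = c := by
        calc x * (x * c * x⁻¹) * x⁻¹ = (x * x) * c * (x * x)⁻¹ := by group
          _ = c := by rw [hxx]; group
      calc x * d * x⁻¹ = x * (x * c * x⁻¹) * x⁻¹ * (x * c * x⁻¹) := by rw [hd]; group
        _ = d := by rw [e, hcomm _ (zpowers_le.2 hcK (hnorm c (mem_zpowers c)))]
    have hd2 := hfour d hdmem hdx
    by_contra hne
    have hd1 : d ≠ 1 := fun e => hne (eq_inv_of_mul_eq_one_left e)
    have hdt : d = t := involution_unique (zpowers_le.2 hcK hdmem) ht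
      (orderOf_eq_prime (by rw [pow_two]; exact hd2) hd1) ht2
    have hxc' : x * c * x⁻¹ = t * c⁻¹ := by rw [← hdt, hd, mul_inv_cancel_right]
    -- then `c * x` has order four and escapes by transfer
    set y := c * x with hy
    have hyy : y * y = t := by
      calc y * y = c * (x * c * x) := by rw [hy]; group
        _ = c * (t * c⁻¹) := by rw [← hxc', hxinv]
        _ = t := by rw [← mul_assoc, htc, mul_inv_cancel_right]
    have hc2 : x * (c * c) * x⁻¹ = (c * c)⁻¹ := by
      calc x * (c * c) * x⁻¹ = (x * c * x⁻¹) * (x * c * x⁻¹) := by group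
        _ = t * (c⁻¹ * t) * c⁻¹ := by rw [hxc']; group
        _ = t * (t * c⁻¹) * c⁻¹ := by
          rw [(show Commute c t from htc).inv_left.eq]
        _ = _ := by rw [← mul_assoc t t, htt]; group
    have hE : ∀ e ∈ zpowers (c * c), x * e * x⁻¹ = e⁻¹ := fun e he => by
      obtain ⟨i, rfl⟩ := mem_zpowers_iff.1 he
      rw [← conj_zpow, hc2, inv_zpow]
    have hE' : ∀ e ∈ zpowers (c * c), x * e = e⁻¹ * x := fun e he => mul_inv_eq_iff_eq_mul.1 (hE e he)
    let Q : Subgroup G :=
      { carrier := {g | ∃ e ∈ zpowers (c * c), g = e ∨ g = e * x}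
        one_mem' := ⟨1, one_mem _, Or.inl rfl⟩
        mul_mem' := by
          rintro g g' ⟨e, he, h1 | h1⟩ ⟨e', he', h2 | h2⟩
          · exact ⟨e * e', mul_mem he he', Or.inl (by rw [h1, h2])⟩
          · exact ⟨e * e', mul_mem he he', Or.inr (by rw [h1, h2, mul_assoc])⟩
          · exact ⟨e * e'⁻¹, mul_mem he (inv_mem he'), Or.inr (by rw [h1, h2, mul_assoc, hE' e' he', mul_assoc])⟩
          · refine ⟨e * e'⁻¹, mul_mem he (inv_mem he'), Or.inl ?_⟩
            rw [h1, h2, mul_assoc, ← mul_assoc x, hE' e' he', mul_assoc e'⁻¹, hxx, mul_one]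
        inv_mem' := by
          rintro g ⟨e, he, h1 | h1⟩
          · exact ⟨e⁻¹, inv_mem he, Or.inl (by rw [h1])⟩
          · exact ⟨e, he, Or.inr (by rw [h1, mul_inv_rev, hxinv, hE' _ (inv_mem he), inv_inv])⟩ }
    have hcc : zpowers (c * c) ≤ zpowers c := zpowers_le.2 (mul_mem (mem_zpowers c) (mem_zpowers c))
    have hQS : Q ≤ (S : Subgroup G) := by
      rintro _ ⟨e, he, rfl | rfl⟩
      · exact hcle (hcc he)
      · exact mul_mem (hcle (hcc he)) hxS
    have hxE : x ∉ zpowers (c * c) := fun e => hxc (hcc e)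
    have hs2 : 2 ≤ s := by
      by_contra hlt
      refine hne ?_
      have hct : c = t := involution_unique hcK ht (by rw [hco, show s = 1 by omega, pow_one]) ht2
      have hxt : x * t * x⁻¹ = t := mul_inv_eq_iff_eq_mul.2 (mem_centralizer_singleton_iff.1 hxC)
      rw [hct, hxt, inv_eq_of_mul_eq_one_right htt]
    have hEQ : zpowers (c * c) ≤ Q := fun e he => ⟨e, he, Or.inl rfl⟩
    have hQrel : Q.relIndex (S : Subgroup G) = 2 := by
      have e1 : (zpowers (c * c)).relIndex Q = 2 := by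
        refine index_eq_two_iff.2 ⟨⟨x, ⟨1, one_mem _, Or.inr (one_mul x).symm⟩⟩, ?_⟩
        rintro ⟨b, e, he, rfl | rfl⟩
        · exact Or.inr ⟨he, fun hh => hxE ((mul_mem_cancel_left (x := b) he).1 hh)⟩
        · refine Or.inl ⟨?_, fun hh => hxE ((mul_mem_cancel_left he).1 hh)⟩
          show e * x * x ∈ zpowers (c * c)
          rwa [mul_assoc, hxx, mul_one]
      have e2 := card_mul_relIndex_of_le hEQ
      have e3 := card_mul_relIndex_of_le hQS
      rw [e1, Nat.card_zpowers, ← pow_two, orderOf_pow_of_dvd two_ne_zero (hco ▸ dvd_pow_self 2 (by omega)), hco,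
        Nat.div_mul_cancel (dvd_pow_self 2 (by omega : s ≠ 0))] at e2
      rw [← e2, hScard'] at e3
      exact Nat.eq_of_mul_eq_mul_left (pow_pos two_pos s) e3
    have hy4 : y ^ 4 = 1 := by rw [show (4 : ℕ) = 2 * 2 from rfl, pow_mul, pow_two y, hyy, pow_two, htt]
    have hyK : y ∉ zpowers a := fun e => hxK ((mul_mem_cancel_left hcK).1 e)
    have htc2 : t ∈ zpowers (c * c) := by
      have e : orderOf ((c * c) ^ 2 ^ (s - 2)) = 2 := by
        have hcc2 : orderOf (c * c) = 2 ^ (s - 1) := by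
          rw [← pow_two, orderOf_pow_of_dvd two_ne_zero (hco ▸ dvd_pow_self 2 (by omega)), hco]
          conv_lhs => rw [show s = s - 1 + 1 by omega, pow_succ, Nat.mul_div_cancel _ two_pos]
        rw [orderOf_pow_of_dvd (pow_pos two_pos _).ne' (hcc2 ▸ pow_dvd_pow 2 (by omega)), hcc2,
          Nat.pow_div (by omega) two_pos, show s - 1 - (s - 2) = 1 by omega, pow_one]
      rw [involution_unique ht (pow_mem (zpowers_le.2 hcK (mul_mem (mem_zpowers c) (mem_zpowers c))) _) ht2 e]
      exact pow_mem (mem_zpowers _) _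
    refine absurd (transfer_four S Q hQrel hy4 (fun g hg => ?_) (fun g hg => ?_))
      fun ⟨M, hM, hi, _⟩ => h.no_index_two M hM hi
    · obtain ⟨e, he, h1 | h1⟩ := hg
      · have h2 : g * t * g⁻¹ ∈ zpowers a := by
          rw [← hyy, show g * (y * y) * g⁻¹ = (g * y * g⁻¹) * (g * y * g⁻¹) by group, h1]
          exact mul_mem (zpowers_le.2 hcK (hcc he)) (zpowers_le.2 hcK (hcc he))
        have h3 := involution_unique h2 ht ((orderOf_conjugate g t).trans ht2) ht2
        have hgC : g⁻¹ ∈ C := inv_mem (mem_centralizer_singleton_iff.2 (mul_inv_eq_iff_eq_mul.1 h3))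
        have h4 := (h.conj_mem ha hKC hCd hgC (y := e) (zpowers_le.2 hcK (hcc he))).1
        rw [← h1, show g⁻¹ * (g * y * g⁻¹) * g⁻¹⁻¹ = y by group] at h4
        exact hyK h4
      · have h2 : (g * y * g⁻¹) * (g * y * g⁻¹) = 1 := by
          rw [h1, mul_assoc, ← mul_assoc x, hE' e he, mul_assoc e⁻¹, hxx, mul_one, mul_inv_cancel]
        rw [show g * y * g⁻¹ * (g * y * g⁻¹) = g * (y * y) * g⁻¹ by group, hyy, conj_eq_one_iff] at h2
        rw [h2, orderOf_one] at ht2; omega
    · rw [hyy] at hg ⊢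
      set u := g * t * g⁻¹ with hu
      have huo : orderOf u = 2 := (orderOf_conjugate g t).trans ht2
      by_cases huc : u ∈ zpowers c
      · rw [involution_unique (zpowers_le.2 hcK huc) ht huo ht2]
        exact ⟨t, htc2, Or.inl rfl⟩
      · have hux : u * x ∈ zpowers c := by
          have := (mul_mem_iff_of_index_two (H := (zpowers c).subgroupOf (S : Subgroup G)) hrel
            (a := ⟨u, hg⟩) (b := ⟨x, hxS⟩)).2 ⟨fun e => absurd e huc, fun e => absurd e hxc⟩
          exact this
        obtain ⟨i, hi⟩ := mem_powers_iff_mem_zpowers.2 hux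
        simp only at hi
        have hui : u = c ^ i * x := by rw [hi, mul_assoc, hxx, mul_one]
        rcases Nat.even_or_odd i with ⟨l, rfl⟩ | ⟨l, rfl⟩
        · exact ⟨(c * c) ^ l, pow_mem (mem_zpowers _) l, Or.inr (by rw [hui, ← two_mul, pow_mul, pow_two])⟩
        · exfalso
          set e := (c * c) ^ l with hedef
          have he : e ∈ zpowers (c * c) := pow_mem (mem_zpowers _) l
          have hu' : u = e * y := by
            rw [hui, hy, pow_succ, pow_mul, pow_two, ← mul_assoc]
          have hce : c * e = e * c := hcomm e (zpowers_le.2 hcK (hcc he))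
          have h2 : u * u = t := by
            calc u * u = e * (c * (x * e) * (c * x)) := by rw [hu', hy]; group
              _ = e * (c * (e⁻¹ * x) * (c * x)) := by rw [hE' e he]
              _ = e * (c * e⁻¹) * (x * c * x) := by group
              _ = c * (x * c * x) := by
                rw [(show Commute c e from hce).inv_right.eq, ← mul_assoc e, mul_inv_cancel, one_mul]
              _ = t := by
                calc c * (x * c * x) = y * y := by rw [hy]; group
                  _ = t := hyy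
          rw [← pow_two, ← huo, pow_orderOf_eq_one] at h2
          rw [← h2, orderOf_one] at ht2
          omega
  refine ⟨S, 2 ^ s, c, ?_, ?_, hSC, hcK, htS, hinf, hrel⟩
  · calc 2 = 2 ^ 1 := rfl
      _ ≤ 2 ^ s := Nat.pow_le_pow_right two_pos hs1
  · haveI : NeZero (2 ^ s) := ⟨(pow_pos two_pos s).ne'⟩
    refine CfsgLib.TwoGroups.nonempty_mulEquiv_dihedralGroup (a := (⟨c, hcS⟩ : (S : Subgroup G))) (b := ⟨x, hxS⟩)
      (by rw [Subgroup.orderOf_mk, hco]) (Subtype.ext hxx) ?_ (Subtype.ext hxcx) (by rw [hScard', mul_comm])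
    rintro ⟨i, hi⟩
    exact hxc ⟨i, by simpa using congrArg Subtype.val hi⟩

end OddSetup

end CfsgLib.PSLOrderSpectrum
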