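import Cfsg.Agent.Lib.Recog.PSLOrderSpectrum.OddCase
import Cfsg.Agent.Lib.CIT.CNStructure
import Cfsg.Agent.Lib.Recog.PSLTwoOrders
import Cfsg.Agent.Lib.Recog.SimpleSixty
import Cfsg.Agent.Lib.Classical.Dickson.PlatonicIff
import Cfsg.Agent.Lib.Classical.Dickson.SubgroupFacts
import Mathlib.FieldTheory.Finite.GaloisField

/-!
# `PSL(2, q)` is determined by its order and its element orders
-/

set_option autoImplicit false
set_option linter.all false

namespace CfsgLib.PSLOrderSpectrum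

open Subgroup
open scoped MatrixGroups

variable {G : Type*} [Group G] [Finite G]

/-- The numbers of `PSL(2, q)`, `q` even. -/
structure EvenSetup (G : Type*) [Group G] (q : ℕ) : Prop where
  q_ge : 4 ≤ q
  q_pow : ∃ n, q = 2 ^ n
  card_eq : Nat.card G = q * (q - 1) * (q + 1)
  spec : ∀ n : ℕ, (∃ g : G, orderOf g = n) ↔ (n = 2 ∨ n ∣ q - 1 ∨ n ∣ q + 1)

namespace EvenSetup

variable {q : ℕ} (h : EvenSetup G q)
include h

omit [Finite G] in
theorem even_q : 2 ∣ q := by
  obtain ⟨n, hn⟩ := h.q_pow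
  have := h.q_ge
  exact hn ▸ dvd_pow_self 2 (fun e => by rw [e, pow_zero] at hn; omega)

omit [Finite G] in
theorem cop : q.Coprime (q + 1) ∧ q.Coprime (q - 1) ∧ (q - 1).Coprime (q + 1) := by
  have he := h.even_q
  have hq := h.q_ge
  refine ⟨by simp, ?_, ?_⟩
  · apply Nat.coprime_of_dvd
    intro r hr h1 h2
    have h3 : r ∣ q - (q - 1) := Nat.dvd_sub h1 h2
    rw [show q - (q - 1) = 1 by omega] at h3
    exact hr.one_lt.ne' (Nat.dvd_one.1 h3)
  · apply Nat.coprime_of_dvd
    intro r hr h1 h2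
    have h3 : r ∣ q + 1 - (q - 1) := Nat.dvd_sub h2 h1
    rw [show q + 1 - (q - 1) = 2 by omega, Nat.prime_dvd_prime_iff_eq hr Nat.prime_two] at h3
    subst h3; omega

theorem dvd_of_prime {r : ℕ} (hr : r.Prime) (hr2 : r ≠ 2) {X : ℕ} (hX : X = q - 1 ∨ X = q + 1) (hrX : r ∣ X)
    (y : G) (hy : r ∣ orderOf y) : orderOf y ∣ X := by
  have key : ∀ Y : ℕ, (Y = q - 1 ∨ Y = q + 1) → orderOf y ∣ Y → orderOf y ∣ X := fun Y hY e => by
    rcases hX with rfl | rfl <;> rcases hY with rfl | rfl <;> first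
      | exact e
      | exact absurd (Nat.eq_one_of_dvd_coprimes h.cop.2.2 hrX (hy.trans e)) hr.one_lt.ne'
      | exact absurd (Nat.eq_one_of_dvd_coprimes h.cop.2.2 (hy.trans e) hrX) hr.one_lt.ne'
  rcases (h.spec _).1 ⟨y, rfl⟩ with e | e | e
  · rw [e] at hy
    exact absurd ((Nat.prime_dvd_prime_iff_eq hr Nat.prime_two).1 hy) hr2
  · exact key _ (Or.inl rfl) e
  · exact key _ (Or.inr rfl) e

theorem cent {z : G} {r X : ℕ} (hr : r.Prime) (hz : orderOf z = r) (hX : X = q - 1 ∨ X = q + 1) (hrX : r ∣ X) :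
    Nat.card (centralizer ({z} : Set G)) ∣ X := by
  have he := h.even_q
  have hq := h.q_ge
  have hr2 : r ≠ 2 := fun e => by subst e; rcases hX with rfl | rfl <;> omega
  obtain ⟨h1, h2, h3⟩ := h.cop
  rcases hX with rfl | rfl
  · exact card_centralizer_dvd (N := q * (q + 1)) (by rw [h.card_eq]; ring) (Nat.Coprime.mul_left h2 h3.symm)
      hr hz hrX (h.dvd_of_prime hr hr2 (Or.inl rfl) hrX)
  · exact card_centralizer_dvd (N := q * (q - 1)) h.card_eq (Nat.Coprime.mul_left h1 h3)
      hr hz hrX (h.dvd_of_prime hr hr2 (Or.inr rfl) hrX)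

theorem torus : Torus G (q * (q - 1)) (q + 1) where
  odd := by have := h.even_q; rw [Nat.odd_iff]; omega
  one_lt := by have := h.q_ge; omega
  card_eq := h.card_eq
  coprime := Nat.Coprime.mul_left h.cop.1 h.cop.2.2
  modTwo := fun r hr hrA => by
    rw [← ZMod.natCast_eq_natCast_iff]
    have h0 : ((q + 1 : ℕ) : ZMod r) = 0 := (ZMod.natCast_eq_zero_iff (q + 1) r).2 hrA
    push_cast at h0
    have hq' : (q : ZMod r) = -1 := eq_neg_of_add_eq_zero_left h0
    rw [Nat.cast_mul, Nat.cast_sub (by have := h.q_ge; omega), hq']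
    push_cast
    ring
  exists_gen := (h.spec (q + 1)).2 (Or.inr (Or.inr dvd_rfl))
  cent := fun z hz hzA => h.cent hz rfl (Or.inr rfl) hzA

theorem noV (V : Subgroup G) (s : ℕ) (hVn : V.Normal) (hs : s.Prime) (hVc : ∀ x y : V, x * y = y * x)
    (hVe : ∀ x : V, x ^ s = 1) : V = ⊥ := by
  classical
  haveI := hVn
  haveI := Fact.mk hs
  by_contra hVb
  obtain ⟨v, hv, hv1⟩ := V.bot_or_exists_ne_one.resolve_left hVb
  have hvo : orderOf v = s := orderOf_eq_prime (congrArg Subtype.val (hVe ⟨v, hv⟩)) hv1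
  have hVp : IsPGroup s V := fun x => ⟨1, by rw [pow_one]; exact hVe x⟩
  obtain ⟨j, hj⟩ := IsPGroup.iff_card.1 hVp
  have hVG : s ^ j ∣ q * (q - 1) * (q + 1) := hj ▸ h.card_eq ▸ card_subgroup_dvd_card V
  have horb := card_le_orbit V hv hv1
  rw [h.card_eq] at horb
  have hq := h.q_ge
  have he := h.even_q
  obtain ⟨h1, h2, h3⟩ := h.cop
  have hsG : s ∣ q * (q - 1) * (q + 1) := h.card_eq ▸ hvo ▸ orderOf_dvd_natCard v
  by_cases hs2 : s = 2
  · subst hs2
    have hfree : ∀ X : ℕ, (X = q - 1 ∨ X = q + 1) → X ∣ Nat.card V - 1 := by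
      intro X hX
      obtain ⟨a, ha⟩ := (h.spec X).2 (by rcases hX with rfl | rfl; exacts [Or.inr (Or.inl dvd_rfl), Or.inr (Or.inr dvd_rfl)])
      rw [← ha]
      refine orderOf_dvd_card_sub_one V a fun i hi w hw hc => ?_
      by_contra hw1
      have hwo : orderOf w = 2 := orderOf_eq_prime (congrArg Subtype.val (hVe ⟨w, hw⟩)) hw1
      have hdX : orderOf (a ^ i) ∣ X := ha ▸ orderOf_pow_dvd i
      have hXodd : ¬ 2 ∣ X := by rcases hX with rfl | rfl <;> omega
      have ho : orderOf (a ^ i * w) = orderOf (a ^ i) * 2 := by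
        rw [(show Commute (a ^ i) w from hc).orderOf_mul_eq_mul_orderOf_of_coprime, hwo]
        rw [hwo]
        exact ((Nat.Prime.coprime_iff_not_dvd Nat.prime_two).2 (fun h' => hXodd (h'.trans hdX))).symm
      rcases (h.spec _).1 ⟨_, ho⟩ with e | e | e
      · exact hi (orderOf_eq_one_iff.1 (by omega))
      · have := (dvd_mul_left 2 _).trans e; omega
      · have := (dvd_mul_left 2 _).trans e; omega
    have h4 : (q - 1) * (q + 1) ∣ Nat.card V - 1 :=
      Nat.Coprime.mul_dvd_of_dvd_of_dvd h3 (hfree _ (Or.inl rfl)) (hfree _ (Or.inr rfl))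
    have h5 : Nat.card V ∣ q := by
      rw [hj]
      refine Nat.Coprime.dvd_of_dvd_mul_right (Nat.Coprime.pow_left j ?_)
        (show 2 ^ j ∣ q * ((q - 1) * (q + 1)) by rwa [← mul_assoc])
      rw [Nat.Prime.coprime_iff_not_dvd Nat.prime_two]
      intro e
      rcases Nat.prime_two.dvd_mul.1 e with e | e <;> omega
    have h6 : 1 < Nat.card V := by
      haveI : Nontrivial V := V.nontrivial_iff_ne_bot.2 hVb
      exact Finite.one_lt_card
    have h7 := Nat.le_of_dvd (by omega) h5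
    have h8 := Nat.le_of_dvd (by omega) h4
    have h9 : 3 * (q + 1) ≤ (q - 1) * (q + 1) := Nat.mul_le_mul_right _ (by omega)
    omega
  · obtain ⟨X, hX, hsX⟩ : ∃ X, (X = q - 1 ∨ X = q + 1) ∧ s ∣ X := by
      rcases hs.dvd_mul.1 hsG with e | e
      · rcases hs.dvd_mul.1 e with e | e
        · obtain ⟨n, hn⟩ := h.q_pow
          exact absurd ((Nat.prime_dvd_prime_iff_eq hs Nat.prime_two).1 (hs.dvd_of_dvd_pow (hn ▸ e))) hs2
        · exact ⟨_, Or.inl rfl, e⟩
      · exact ⟨_, Or.inr rfl, e⟩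
    have hC := Nat.le_of_dvd (by rcases hX with rfl | rfl <;> omega) (h.cent hs hvo hX hsX)
    have hVX : Nat.card V ∣ X := by
      rw [hj]
      rcases hX with rfl | rfl
      · have hc : (s ^ j).Coprime (q * (q + 1)) :=
          (((Nat.Coprime.mul_left h2 h3.symm).symm).coprime_dvd_left hsX).pow_left j
        exact hc.dvd_of_dvd_mul_left (show s ^ j ∣ q * (q + 1) * (q - 1) by convert hVG using 1; ring)
      · exact ((((Nat.Coprime.mul_left h1 h3).symm).coprime_dvd_left hsX).pow_left j).dvd_of_dvd_mul_left hVG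
    have hX' : X ≤ q + 1 := by rcases hX with rfl | rfl <;> omega
    have hV := Nat.le_of_dvd (by rcases hX with rfl | rfl <;> omega) hVX
    have hle : (Nat.card V - 1) * Nat.card (centralizer ({v} : Set G)) ≤ q * (q + 1) :=
      Nat.mul_le_mul (by omega) (by omega)
    have hlt : q * (q + 1) < q * (q - 1) * (q + 1) := by
      refine Nat.mul_lt_mul_of_pos_right ?_ (by omega)
      exact lt_mul_of_one_lt_right (by omega) (by omega)
    omega

theorem simple : IsSimpleGroup G := h.torus.simple fun V s => h.noV V s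

theorem cit : CfsgLib.CIT.CIT G := by
  intro t ht
  rw [IsPGroup.iff_orderOf]
  rintro ⟨y, hy⟩
  have he := h.even_q
  have hq := h.q_ge
  rw [Subgroup.orderOf_mk]
  rcases (h.spec _).1 ⟨y, rfl⟩ with e | e
  · exact ⟨1, by rw [e, pow_one]⟩
  · by_cases h1 : orderOf y = 1
    · exact ⟨0, by rw [h1, pow_zero]⟩
    exfalso
    have hodd : ¬ 2 ∣ orderOf y := by
      intro h2
      rcases e with e | e <;> (have := h2.trans e; omega)
    have hc : Commute y t := mem_centralizer_singleton_iff.1 hy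
    have ho : orderOf (y * t) = orderOf y * 2 := by
      rw [hc.orderOf_mul_eq_mul_orderOf_of_coprime, ht]
      rw [ht]
      exact ((Nat.Prime.coprime_iff_not_dvd Nat.prime_two).2 hodd).symm
    rcases (h.spec _).1 ⟨_, ho⟩ with e' | e' | e'
    · omega
    · have := (dvd_mul_left 2 _).trans e'; omega
    · have := (dvd_mul_left 2 _).trans e'; omega

theorem exponent_two (x : G) (hx : ∃ k, orderOf x = 2 ^ k) : x * x = 1 := by
  obtain ⟨k, hk⟩ := hx
  rw [← pow_two, ← orderOf_dvd_iff_pow_eq_one]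
  rcases (h.spec _).1 ⟨x, rfl⟩ with e | e
  · exact e.dvd
  · rcases Nat.eq_zero_or_pos k with rfl | hk0
    · rw [hk]; norm_num
    · exfalso
      have h2 : 2 ∣ orderOf x := hk ▸ dvd_pow_self 2 hk0.ne'
      have := h.q_ge
      have := h.even_q
      rcases e with e | e <;> (have := h2.trans e; omega)

omit [Finite G] in
theorem card_even : 2 ∣ Nat.card G := by
  rw [h.card_eq]; exact (h.even_q.mul_right _).mul_right _

/-- **The even case.** -/
theorem exists_psl : ∃ (F : Type) (_ : Field F) (_ : Fintype F),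
    (Fintype.card F = q ∨ (q = 4 ∧ Fintype.card F = 5)) ∧
      Nonempty (G ≃* Matrix.ProjectiveSpecialLinearGroup (Fin 2) F) := by
  haveI := h.simple
  haveI : Fact (Nat.Prime 2) := ⟨Nat.prime_two⟩
  have hq := h.q_ge
  have hna : ¬ IsMulCommutative G := by
    intro hc
    obtain ⟨b, hb⟩ := (h.spec (q + 1)).2 (Or.inr (Or.inr dvd_rfl))
    obtain ⟨t, ht⟩ := exists_prime_orderOf_dvd_card' (G := G) 2 h.card_even
    obtain ⟨k, hk⟩ := IsPGroup.iff_orderOf.1 (h.cit t ht) ⟨b, mem_centralizer_singleton_iff.2 (hc.1.comm b t)⟩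
    rw [Subgroup.orderOf_mk, hb] at hk
    have := h.even_q
    rcases Nat.eq_zero_or_pos k with rfl | hk0
    · omega
    · have := hk ▸ dvd_pow_self 2 hk0.ne'; omega
  rcases CfsgLib.CIT.simple_ti hna h.cit h.card_even
    (CfsgLib.CIT.tiSylow_of_exponent_two h.cit h.exponent_two) with ⟨F, iF, iFt, hF, ⟨e⟩⟩ | ⟨-, m, hm, hSz⟩
  · refine ⟨F, iF, iFt, ?_, ⟨e⟩⟩
    have hcard := CfsgLib.Classical.Dickson.gcd_mul_card_psl (F := F) rfl
    rw [← Nat.card_congr e.toEquiv, h.card_eq] at hcard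
    obtain ⟨n, hn⟩ := h.q_pow
    have hsq : ∀ x : ℕ, 1 ≤ x → x ^ 2 - 1 = (x - 1) * (x + 1) := fun x hx => by
      obtain ⟨y, rfl⟩ := Nat.exists_eq_add_of_le hx
      rw [show 1 + y - 1 = y by omega, show (1 + y) ^ 2 = y * (1 + y + 1) + 1 by ring, Nat.add_sub_cancel]
    rcases hF with h9 | ⟨k, hk⟩ | ⟨hp, k, hk⟩
    · exfalso
      rw [h9] at hcard
      norm_num at hcard
      rcases Nat.lt_or_ge n 3 with h3 | h3
      · interval_cases n <;> subst hn <;> norm_num at hcard
      · have : 8 ≤ q := hn ▸ (show 2 ^ 3 ≤ 2 ^ n from Nat.pow_le_pow_right two_pos h3)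
        have h' : 8 * 7 * 9 ≤ q * (q - 1) * (q + 1) := Nat.mul_le_mul (Nat.mul_le_mul this (by omega)) (by omega)
        omega
    · left
      have hk0 : 1 ≤ k := by
        by_contra h0
        have := Fintype.one_lt_card (α := F)
        rw [hk, show k = 0 by omega] at this
        exact lt_irrefl _ this
      have h1 : 1 ≤ 2 ^ k := Nat.one_le_two_pow
      have hg : Nat.gcd 2 (Fintype.card F - 1) = 1 := by
        rw [hk]
        have h2 : 2 ∣ 2 ^ k := dvd_pow_self 2 (by omega)
        exact (Nat.Prime.coprime_iff_not_dvd Nat.prime_two).2 (by omega)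
      rw [hg, one_mul, hk, hsq _ h1, ← mul_assoc] at hcard
      rw [hk]
      rcases lt_trichotomy (2 ^ k) q with hlt | he | hlt
      · exact absurd hcard.symm (ne_of_lt (Nat.mul_lt_mul_of_lt_of_le
          (Nat.mul_lt_mul_of_lt_of_le hlt (by omega) (by omega)) (by omega) (by omega)))
      · exact he
      · exact absurd hcard (ne_of_lt (Nat.mul_lt_mul_of_lt_of_le
          (Nat.mul_lt_mul_of_lt_of_le hlt (by omega) (by omega)) (by omega) (by omega)))
    · right
      set r := Fintype.card F with hr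
      have hr2 : 2 ≤ r := hp.two_le
      have hk2 : 2 ≤ k := by
        by_contra h0
        have hk' : 2 ^ k ≤ 2 := (Nat.pow_le_pow_right two_pos (show k ≤ 1 by omega)).trans (by norm_num)
        have hr3 : r ≤ 3 := by omega
        have h5 : 4 * 3 * 5 ≤ q * (q - 1) * (q + 1) := Nat.mul_le_mul (Nat.mul_le_mul hq (by omega)) (by omega)
        have h6 : r * (r ^ 2 - 1) ≤ 24 := by interval_cases r <;> norm_num
        have h7 : q * (q - 1) * (q + 1) ≤ r * (r ^ 2 - 1) :=
          hcard ▸ Nat.le_mul_of_pos_left _ (Nat.gcd_pos_of_pos_left _ two_pos)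
        omega
      obtain ⟨l, hl⟩ : ∃ l, k = l + 1 := ⟨k - 1, by omega⟩
      have hk' : 2 ^ k = 2 * 2 ^ l := by rw [hl, pow_succ, mul_comm]
      have hl2 : 2 ∣ 2 ^ l := dvd_pow_self 2 (by omega)
      have hl1 : 2 ≤ 2 ^ l := Nat.le_of_dvd (pow_pos two_pos l) hl2
      have hg : Nat.gcd 2 (r - 1) = 2 := Nat.gcd_eq_left (by omega)
      rw [hg, hsq r (by omega)] at hcard
      -- the powers of two on both sides agree
      obtain ⟨X, hX, hXodd⟩ : ∃ X, q * ((q - 1) * (q + 1)) = 2 ^ k * X ∧ ¬ 2 ∣ X := by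
        rcases hk with e | e
        · refine ⟨r * (2 ^ l + 1), ?_, fun h2 => ?_⟩
          · apply Nat.eq_of_mul_eq_mul_left two_pos
            rw [← mul_assoc q, hcard, e, hk', show 2 * 2 ^ l + 1 - 1 = 2 * 2 ^ l by omega]
            ring
          · rcases Nat.prime_two.dvd_mul.1 h2 with h2 | h2 <;> omega
        · refine ⟨r * (2 ^ l - 1), ?_, fun h2 => ?_⟩
          · apply Nat.eq_of_mul_eq_mul_left two_pos
            have e1 : r - 1 = 2 * (2 ^ l - 1) := by omega
            rw [← mul_assoc q, hcard, e1, e, hk']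
            ring
          · rcases Nat.prime_two.dvd_mul.1 h2 with h2 | h2 <;> omega
      have hne : ¬ 2 ∣ (q - 1) * (q + 1) := by
        have := h.even_q
        intro h2
        rcases Nat.prime_two.dvd_mul.1 h2 with h2 | h2 <;> omega
      have hqk : q = 2 ^ k := by
        have e : (q * ((q - 1) * (q + 1))).factorization 2 = (2 ^ k * X).factorization 2 := by rw [hX]
        have hY0 : (q - 1) * (q + 1) ≠ 0 := fun e => hne (by rw [e]; exact dvd_zero 2)
        have hX0 : X ≠ 0 := fun e => hXodd (by rw [e]; exact dvd_zero 2)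
        rw [Nat.factorization_mul (by omega : q ≠ 0) hY0, Nat.factorization_mul (pow_pos two_pos k).ne' hX0, Finsupp.add_apply,
          Finsupp.add_apply, Nat.factorization_eq_zero_of_not_dvd hne, Nat.factorization_eq_zero_of_not_dvd hXodd,
          hn, Nat.Prime.factorization_pow Nat.prime_two, Nat.Prime.factorization_pow Nat.prime_two,
          Finsupp.single_eq_same, Finsupp.single_eq_same, add_zero, add_zero] at e
        rw [hn, e]
      rw [hqk] at hcard
      rcases hk with e | e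
      · rw [e, show (2 ^ k + 1 - 1) = 2 ^ k by omega] at hcard
        have h1 : 2 * (2 ^ k - 1) = 2 ^ k + 2 := by
          apply Nat.eq_of_mul_eq_mul_left (show 0 < 2 ^ k * (2 ^ k + 1) by positivity)
          calc 2 ^ k * (2 ^ k + 1) * (2 * (2 ^ k - 1)) = 2 * (2 ^ k * (2 ^ k - 1) * (2 ^ k + 1)) := by ring
            _ = _ := by rw [hcard]; ring
        omega
      · have e2 : r - 1 = 2 ^ k - 2 := by omega
        have e3 : r = 2 ^ k - 1 := by omega
        rw [e2, e, e3] at hcard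
        exfalso
        have h1 : 2 * (2 ^ k + 1) = 2 ^ k - 2 := by
          apply Nat.eq_of_mul_eq_mul_left (show 0 < 2 ^ k * (2 ^ k - 1) from Nat.mul_pos (by omega) (by omega))
          calc 2 ^ k * (2 ^ k - 1) * (2 * (2 ^ k + 1)) = 2 * (2 ^ k * (2 ^ k - 1) * (2 ^ k + 1)) := by ring
            _ = _ := by rw [hcard]; ring
        omega
  · exfalso
    have h3 : 3 ∣ Nat.card G := by
      rw [h.card_eq, ← ZMod.natCast_eq_zero_iff, Nat.cast_mul, Nat.cast_mul, Nat.cast_sub (by omega : 1 ≤ q)]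
      push_cast
      generalize (q : ZMod 3) = x
      revert x; decide
    rw [hSz, ← ZMod.natCast_eq_zero_iff] at h3
    have hx : ((2 ^ (2 * m + 1) : ℕ) : ZMod 3) = 2 := by
      push_cast
      rw [pow_succ, pow_mul, show (2 : ZMod 3) ^ 2 = 1 from by decide, one_pow, one_mul]
    rw [Nat.cast_mul, Nat.cast_mul, Nat.cast_sub Nat.one_le_two_pow] at h3
    rw [Nat.cast_add, Nat.cast_pow _ 2, hx, Nat.cast_one] at h3
    revert h3; decide

end EvenSetup

open CfsgLib.Recog.PSLTwoOrders in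
/-- **`PSL(2, q)` is determined by its order and its element orders.** -/
theorem nonempty_mulEquiv {F : Type*} [Field F] [Fintype F] (hF : 3 < Fintype.card F)
    (hspec : Set.range (orderOf : G → ℕ) = Set.range (orderOf : L2 F → ℕ))
    (hcard : Nat.card G = Nat.card (L2 F)) : Nonempty (G ≃* L2 F) := by
  classical
  set q := Fintype.card F with hqdef
  obtain ⟨p, hp⟩ := CharP.exists F
  haveI : Fact p.Prime := ⟨CharP.char_is_prime F p⟩
  obtain ⟨f, hf, hqf⟩ := CfsgLib.Classical.Dickson.exists_char_pow (F := F) p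
  have hpp := (Fact.out : p.Prime)
  have hrange := range_orderOf (F := F) p (by omega)
  rw [← hqdef] at hrange
  have hspecG : ∀ n : ℕ, (∃ g : G, orderOf g = n) ↔ n ∈ Set.range (orderOf : L2 F → ℕ) := fun n => by
    rw [← hspec]; rfl
  have hgc := CfsgLib.Classical.Dickson.gcd_mul_card_psl (F := F) hqdef.symm
  have hsq : ∀ x : ℕ, 1 ≤ x → x ^ 2 - 1 = (x - 1) * (x + 1) := fun x hx => by
    obtain ⟨y, rfl⟩ := Nat.exists_eq_add_of_le hx
    rw [show 1 + y - 1 = y by omega, show (1 + y) ^ 2 = y * (1 + y + 1) + 1 by ring, Nat.add_sub_cancel]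
  have finish : ∀ (F' : Type) [Field F'] [Fintype F'], Fintype.card F' = q →
      (G ≃* L2 F') → Nonempty (G ≃* L2 F) := by
    intro F' _ _ hc e
    have hinj := CfsgLib.Classical.Dickson.pslMap_injective (FiniteField.ringEquivOfCardEq (K := F') (K' := F) (hc.trans hqdef)).toRingHom
    refine ⟨e.trans (MulEquiv.ofBijective _ (hinj.bijective_of_nat_card_le ?_))⟩
    rw [← hcard, Nat.card_congr e.toEquiv]
  by_cases hp2 : p = 2
  · subst hp2
    have h2q : 2 ∣ q := by rw [hqdef, hqf]; exact dvd_pow_self 2 (by omega)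
    have hg : Nat.gcd 2 (q - 1) = 1 := (Nat.Prime.coprime_iff_not_dvd Nat.prime_two).2 (by omega)
    rw [hg, one_mul] at hgc
    simp only [hg, Nat.div_one] at hrange
    have hsetup : ∀ (H : Type _) [Group H] [Finite H], Nat.card H = Nat.card (L2 F) →
        (∀ n : ℕ, (∃ g : H, orderOf g = n) ↔ n ∈ Set.range (orderOf : L2 F → ℕ)) → EvenSetup H q := by
      intro H _ _ hH hs
      exact ⟨by omega, ⟨f, hqf⟩, by rw [hH, hgc, hsq q (by omega), mul_assoc], fun n => by rw [hs, hrange]; rfl⟩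
    have hsG := hsetup G hcard hspecG
    obtain ⟨F', iF', iFt', hF', ⟨e⟩⟩ := hsG.exists_psl
    rcases hF' with hF' | ⟨hq4, -⟩
    · exact finish F' hF' e
    · have h60 : Nat.card G = 60 := by rw [hsG.card_eq, hq4]
      haveI := hsG.simple
      have hL : EvenSetup (L2 F) q := ⟨by omega, ⟨f, hqf⟩, by rw [hgc, hsq q (by omega), mul_assoc],
        fun n => by rw [show (∃ g : L2 F, orderOf g = n) ↔ n ∈ Set.range (orderOf : L2 F → ℕ) from Iff.rfl, hrange]; rfl⟩
      haveI := hL.simple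
      obtain ⟨e1⟩ := CfsgLib.Recog.Sixty.iso_alt_five (G := G) h60
      obtain ⟨e2⟩ := CfsgLib.Recog.Sixty.iso_alt_five (G := L2 F) (hcard ▸ h60)
      exact ⟨e1.trans e2.symm⟩
  · have hodd : Odd q := by rw [hqdef, hqf]; exact (hpp.odd_of_ne_two hp2).pow
    have hq2 := Nat.odd_iff.1 hodd
    have hg : Nat.gcd 2 (q - 1) = 2 := Nat.gcd_eq_left (by omega)
    rw [hg] at hgc
    rw [hg] at hrange
    set a := (q - 1) / 2
    set b := (q + 1) / 2
    obtain ⟨T, A, hTA, hT2⟩ : ∃ T A, ((T = a ∧ A = b) ∨ (T = b ∧ A = a)) ∧ 2 ∣ T := by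
      by_cases h2 : 2 ∣ a
      · exact ⟨a, b, Or.inl ⟨rfl, rfl⟩, h2⟩
      · exact ⟨b, a, Or.inr ⟨rfl, rfl⟩, by omega⟩
    have hsG : OddSetup G q p T A :=
      { q_ge := by omega
        prime := hpp
        odd_p := hp2
        q_pow := ⟨f, hqf⟩
        shape := by rcases hTA with ⟨rfl, rfl⟩ | ⟨rfl, rfl⟩ <;> [left; right] <;> omega
        even_T := hT2
        odd_A := by rw [Nat.odd_iff]; rcases hTA with ⟨rfl, rfl⟩ | ⟨rfl, rfl⟩ <;> omega
        card_eq := by
          apply Nat.eq_of_mul_eq_mul_left two_pos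
          rw [hcard, hgc, hsq q (by omega), show q - 1 = 2 * a by omega, show q + 1 = 2 * b by omega]
          rcases hTA with ⟨rfl, rfl⟩ | ⟨rfl, rfl⟩ <;> ring
        spec := fun n => by
          rw [hspecG, hrange]
          rcases hTA with ⟨rfl, rfl⟩ | ⟨rfl, rfl⟩
          · rfl
          · exact or_congr Iff.rfl or_comm }
    obtain ⟨F', iF', iFt', hF', ⟨e⟩⟩ := hsG.exists_psl
    refine finish F' ?_ e
    have hg' := CfsgLib.Classical.Dickson.gcd_mul_card_psl (F := F') rfl
    have h1 := Nat.odd_iff.1 hF'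
    have hr1 : 1 ≤ Fintype.card F' := Fintype.card_pos
    rw [Nat.gcd_eq_left (show 2 ∣ Fintype.card F' - 1 by omega), ← Nat.card_congr e.toEquiv, hcard, hgc,
      hsq q (by omega), hsq _ hr1] at hg'
    rcases lt_trichotomy (Fintype.card F') q with hlt | he | hlt
    · refine absurd hg'.symm (ne_of_lt ?_)
      exact Nat.mul_lt_mul_of_lt_of_le hlt (Nat.mul_le_mul (by omega) (by omega)) (Nat.mul_pos (by omega) (by omega))
    · exact he
    · refine absurd hg' (ne_of_lt ?_)
      exact Nat.mul_lt_mul_of_lt_of_le hlt (Nat.mul_le_mul (by omega) (by omega)) (Nat.mul_pos (by omega) (by omega))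

end CfsgLib.PSLOrderSpectrum
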