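import Cfsg.Agent.Lib.Recog.PSLOrderSpectrum.Centralizer

/-!
# The odd part of the involution centraliser, and the recognition
-/

set_option autoImplicit false
set_option linter.all false

namespace CfsgLib.PSLOrderSpectrum

open Subgroup

variable {G : Type*} [Group G] [Finite G]

namespace OddSetup

variable {q p T A : ℕ} (h : OddSetup G q p T A)
include h

omit [Finite G] in
theorem mul_modEq_one {r : ℕ} (hrT : r ∣ T) : q * A ≡ 1 [MOD r] := by
  rw [← ZMod.natCast_eq_natCast_iff]
  have hT0 : (T : ZMod r) = 0 := (ZMod.natCast_eq_zero_iff T r).2 hrT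
  rcases h.shape with ⟨h1, h2⟩ | ⟨h1, h2⟩
  · subst h1 h2
    push_cast
    rw [hT0]; ring
  · have hA0 : (A : ZMod r) = -1 := by
      rw [← h1] at hT0
      push_cast at hT0
      exact eq_neg_of_add_eq_zero_left hT0
    subst h2
    push_cast
    rw [hA0]; ring

/-- An element of odd prime order of the cyclic group does not meet the outside of it. -/
theorem not_commute {a t : G} (ha : orderOf a = T) (ht : t ∈ zpowers a) (ht2 : orderOf t = 2)
    {z : G} (hzK : z ∈ zpowers a) {r : ℕ} (hr : r.Prime) (hr2 : r ≠ 2) (hzo : orderOf z = r)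
    {w : G} (hwC : w ∈ centralizer ({t} : Set G)) (hwK : w ∉ zpowers a) : w * z ≠ z * w := by
  classical
  intro hwz
  haveI := Fact.mk hr
  have hT := h.T_ge
  have hKcent : ∀ v ∈ zpowers a, zpowers a ≤ centralizer ({v} : Set G) := fun v hv => by
    refine zpowers_le.2 (mem_centralizer_singleton_iff.2 ?_)
    obtain ⟨i, rfl⟩ := mem_zpowers_iff.1 hv
    exact ((Commute.refl a).zpow_right i).eq
  set C := centralizer ({t} : Set G) with hC
  have hCc : Nat.card C = 2 * T := h.card_centralizer_involution ha ht ht2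
  have hKC : zpowers a ≤ C := hKcent t ht
  have hCd : Nat.card C ∣ 2 * T := hCc ▸ dvd_rfl
  have hrT : r ∣ T := by
    rw [← hzo, ← ha, ← Nat.card_zpowers a]; exact Subgroup.orderOf_dvd_natCard _ hzK
  have hdz := h.cent_T hr hzo hrT
  have hle : centralizer ({z} : Set G) ≤ C := h.le_centralizer_involution ha ht ht2 (hKcent z hzK) hdz
  have hfull : ∀ v : G, zpowers a ≤ centralizer ({v} : Set G) → centralizer ({v} : Set G) ≤ C →
      (∃ w ∈ centralizer ({v} : Set G), w ∉ zpowers a) → centralizer ({v} : Set G) = C := by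
    rintro v hK hvC ⟨w', hw', hw'K⟩
    have e1 := card_mul_relIndex_of_le hK
    have e2 := card_mul_relIndex_of_le hvC
    rw [Nat.card_zpowers, ha] at e1
    rw [← e1, hCc, mul_assoc, mul_comm 2 T] at e2
    have e3 : (zpowers a).relIndex (centralizer ({v} : Set G)) ≠ 1 := fun e => hw'K (relIndex_eq_one.1 e hw')
    have e4 := Nat.eq_of_mul_eq_mul_left (show 0 < T by omega) e2
    rcases (Nat.dvd_prime Nat.prime_two).1 (e4 ▸ dvd_mul_right _ _ :
      (zpowers a).relIndex (centralizer ({v} : Set G)) ∣ 2) with e | e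
    · exact absurd e e3
    · rw [e] at e4
      exact le_antisymm hvC (relIndex_eq_one.1 (by omega))
  have hCz : centralizer ({z} : Set G) = C :=
    hfull z (hKcent z hzK) hle ⟨w, mem_centralizer_singleton_iff.2 hwz, hwK⟩
  obtain ⟨S, n, c, hn, ⟨eD⟩, hSC, hcK, htc, hinf, hrel⟩ := h.exists_dihedral_sylow ha ht ht2
  -- an involution of the centraliser outside the cyclic group
  obtain ⟨x, hxS, hxx, hxK⟩ : ∃ x ∈ (S : Subgroup G), x * x = 1 ∧ x ∉ zpowers a := by
    by_contra hne
    push Not at hne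
    have h1 : ∀ i : ZMod n, ((eD.symm (DihedralGroup.sr i) : (S : Subgroup G)) : G) ∈ zpowers a := fun i =>
      hne _ (SetLike.coe_mem _) (by
        rw [← Subgroup.coe_mul, ← map_mul, DihedralGroup.sr_mul_self, map_one, OneMemClass.coe_one])
    have h2 : (S : Subgroup G) ≤ zpowers a := fun y hy => by
      obtain ⟨d, hd⟩ : ∃ d, eD.symm d = ⟨y, hy⟩ := ⟨eD ⟨y, hy⟩, eD.symm_apply_apply _⟩
      rcases d with i | i
      · have e : (DihedralGroup.r i : DihedralGroup n) = DihedralGroup.sr 0 * DihedralGroup.sr i := by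
          rw [DihedralGroup.sr_mul_sr, sub_zero]
        rw [e, map_mul] at hd
        rw [show y = ((⟨y, hy⟩ : (S : Subgroup G)) : G) from rfl, ← hd, Subgroup.coe_mul]
        exact mul_mem (h1 0) (h1 i)
      · rw [show y = ((⟨y, hy⟩ : (S : Subgroup G)) : G) from rfl, ← hd]
        exact h1 i
    have h3 : (S : Subgroup G) ≤ zpowers c := hinf ▸ le_inf le_rfl h2
    rw [relIndex_eq_one.2 h3] at hrel
    omega
  have hxC : x ∈ C := hSC hxS
  have hxinv : x⁻¹ = x := inv_eq_of_mul_eq_one_right hxx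
  have hxz : x * z = z * x := mem_centralizer_singleton_iff.1 (hCz.symm ▸ hxC)
  -- the Sylow subgroup of the prime inside the cyclic group
  set k := T.factorization r with hk
  set m := T / r ^ k with hm
  have hTm : T = r ^ k * m := (Nat.mul_div_cancel' (Nat.ordProj_dvd T r)).symm
  have hm0 : m ≠ 0 := fun e => by rw [e, mul_zero] at hTm; omega
  have hk1 : 1 ≤ k := (Nat.Prime.dvd_iff_one_le_factorization hr (by omega)).1 hrT
  set y0 := a ^ m with hy0
  have hy0o : orderOf y0 = r ^ k := by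
    rw [orderOf_pow_of_dvd hm0 (ha ▸ ⟨r ^ k, by rw [mul_comm]; exact hTm⟩), ha, hTm,
      Nat.mul_div_cancel _ (Nat.pos_of_ne_zero hm0)]
  have hy0K : y0 ∈ zpowers a := pow_mem (mem_zpowers a) m
  have hsub : ∀ v ∈ zpowers a, orderOf v = r → zpowers v = zpowers z := fun v hv hvo => by
    have hTr : orderOf a = r * (T / r) := by rw [ha, Nat.mul_div_cancel' hrT]
    have key : ∀ u ∈ zpowers a, orderOf u = r → zpowers u = zpowers (a ^ (T / r)) := fun u hu huo => by
      refine eq_of_le_of_card_ge (zpowers_le.2 (mem_zpowers_pow_of_pow_eq_one hr.pos hTr hu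
        (huo ▸ pow_orderOf_eq_one u))) ?_
      rw [Nat.card_zpowers, Nat.card_zpowers, huo]
      refine Nat.le_of_dvd hr.pos (orderOf_dvd_of_pow_eq_one ?_)
      rw [← pow_mul, mul_comm, ← hTr, pow_orderOf_eq_one]
    rw [key v hv hvo, key z hzK hzo]
  have hxy : x * y0 * x⁻¹ = y0 := by
    set f := x * y0 * x⁻¹ * y0⁻¹ with hf
    have hxy0 : x * y0 * x⁻¹ ∈ zpowers a := (h.conj_mem ha hKC hCd hxC hy0K).1
    have hfK : f ∈ zpowers a := mul_mem hxy0 (inv_mem hy0K)
    have hcommK : ∀ u ∈ zpowers a, ∀ v ∈ zpowers a, u * v = v * u := fun u hu v hv => by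
      obtain ⟨i, rfl⟩ := mem_zpowers_iff.1 hu
      obtain ⟨j, rfl⟩ := mem_zpowers_iff.1 hv
      exact ((Commute.refl a).zpow_zpow i j).eq
    have hfx : x * f * x⁻¹ = f⁻¹ := by
      calc x * f * x⁻¹ = (x * x) * y0 * (x * x)⁻¹ * (x * y0 * x⁻¹)⁻¹ := by rw [hf]; group
        _ = f⁻¹ := by rw [hxx, hf]; group
    have hfr : f ^ r ^ k = 1 := by
      rw [hf, (show Commute (x * y0 * x⁻¹) y0⁻¹ from hcommK _ hxy0 _ (inv_mem hy0K)).mul_pow, conj_pow, inv_pow,
        ← hy0o, pow_orderOf_eq_one, inv_one, mul_one, mul_one, mul_inv_cancel]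
    by_contra hne
    have hf1 : f ≠ 1 := fun e => hne (mul_inv_eq_one.1 e)
    obtain ⟨j, hj⟩ := (Nat.dvd_prime_pow hr).1 (orderOf_dvd_of_pow_eq_one hfr)
    have hrf : r ∣ orderOf f := by
      rw [hj.2]
      refine dvd_pow_self r fun e => hf1 (orderOf_eq_one_iff.1 ?_)
      rw [hj.2, e, pow_zero]
    set v := f ^ (orderOf f / r) with hv
    have hvo : orderOf v = r := orderOf_pow_orderOf_div (orderOf_pos f).ne' hrf
    have hvz : v ∈ zpowers z := hsub v (pow_mem hfK _) hvo ▸ mem_zpowers v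
    obtain ⟨i, hi⟩ := mem_zpowers_iff.1 hvz
    have hxv : x * v * x⁻¹ = v := by
      rw [mul_inv_eq_iff_eq_mul, ← hi]
      exact ((show Commute x z from hxz).zpow_right i).eq
    have hxv' : x * v * x⁻¹ = v⁻¹ := by rw [hv, ← conj_pow, hfx, inv_pow]
    have hv2 : v ^ 2 = 1 := by rw [pow_two, ← eq_inv_iff_mul_eq_one, ← hxv', hxv]
    have h3 := Nat.le_of_dvd two_pos (hvo ▸ orderOf_dvd_of_pow_eq_one hv2)
    exact hr2 (le_antisymm h3 hr.two_le)
  have hCy : centralizer ({y0} : Set G) = C := by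
    refine hfull y0 (hKcent y0 hy0K) (fun g hg => ?_) ⟨x, mem_centralizer_singleton_iff.2
      (mul_inv_eq_iff_eq_mul.1 hxy), hxK⟩
    have hzy : z ∈ zpowers y0 := mem_zpowers_pow_of_pow_eq_one (pow_pos hr.pos k) (ha.trans hTm) hzK
      (orderOf_dvd_iff_pow_eq_one.1 (by rw [hzo]; exact dvd_pow_self r (by omega)))
    obtain ⟨i, hi⟩ := mem_zpowers_iff.1 hzy
    refine hle (mem_centralizer_singleton_iff.2 ?_)
    rw [← hi]
    exact ((show Commute g y0 from mem_centralizer_singleton_iff.1 hg).zpow_right i).eq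
  have hqA : ¬ r ∣ q * A := fun e => by
    have := Nat.modEq_zero_iff_dvd.2 e
    exact hr.one_lt.ne' (Nat.dvd_one.1 (Nat.modEq_zero_iff_dvd.1 ((h.mul_modEq_one hrT).symm.trans this)))
  have hRcard : Nat.card (zpowers y0) = r ^ (Nat.card G).factorization r := by
    rw [Nat.card_zpowers, hy0o, h.card_eq, Nat.factorization_mul (mul_ne_zero (by have := h.q_ge; omega) (by have := h.A_ge; omega) : q * A ≠ 0) (by omega),
      Nat.factorization_mul two_ne_zero (by omega), Finsupp.add_apply, Finsupp.add_apply,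
      Nat.factorization_eq_zero_of_not_dvd hqA,
      Nat.factorization_eq_zero_of_not_dvd (fun e => hr2 ((Nat.prime_dvd_prime_iff_eq hr Nat.prime_two).1 e)),
      zero_add, zero_add, hk]
  set R : Sylow r G := Sylow.ofCard _ hRcard
  have hReq : (R : Subgroup G) = zpowers y0 := rfl
  haveI : IsCyclic (R : Subgroup G) := isCyclic_of_injective (inclusion hReq.le) (inclusion_injective _)
  have hRne : (R : Subgroup G) ≠ ⊥ := by
    rw [hReq, zpowers_ne_bot]
    intro e
    rw [e, orderOf_one] at hy0o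
    exact (Nat.one_lt_pow (by omega) hr.one_lt).ne hy0o
  have hCR : centralizer ((R : Subgroup G) : Set G) = C := by
    rw [hReq, ← hCy]
    refine le_antisymm (centralizer_le (Set.singleton_subset_iff.2 (mem_zpowers y0))) fun g hg =>
      mem_centralizer_iff.2 fun u hu => ?_
    obtain ⟨i, rfl⟩ := mem_zpowers_iff.1 hu
    exact ((show Commute g y0 from mem_centralizer_singleton_iff.1 hg).zpow_right i).eq.symm
  have hrel1 := relIndex_cyclic_sylow R hRne (j := 1) (m := q * A) (hCR ▸ hCc) h.card_eq hr.one_lt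
    (h.mul_modEq_one hrT)
  have hN := MonoidHom.ker_transferSylow_isComplement' R (relIndex_eq_one.1 hrel1)
  haveI := h.simple
  rcases (MonoidHom.normal_ker (MonoidHom.transferSylow R (relIndex_eq_one.1 hrel1))).eq_bot_or_eq_top with e | e
  · rw [e] at hN
    have h4 : (R : Subgroup G) = ⊤ := isComplement'_bot_left.1 hN
    have h5 : T ∣ Nat.card G := h.card_eq ▸ (dvd_mul_left T 2).mul_left (q * A)
    have h6 : Nat.card G = r ^ k := by
      rw [← hy0o, ← Nat.card_zpowers, ← hReq, h4, card_top]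
    have h7 : 2 ∣ r ^ k := (h.even_T.trans h5).trans h6.dvd
    exact hr2 ((Nat.prime_dvd_prime_iff_eq Nat.prime_two hr).1 (Nat.prime_two.dvd_of_dvd_pow h7)).symm
  · rw [e] at hN
    exact hRne (isComplement'_top_left.1 hN)

/-- The centraliser of a nontrivial element of odd order of the cyclic group. -/
theorem centralizer_eq {a t : G} (ha : orderOf a = T) (ht : t ∈ zpowers a) (ht2 : orderOf t = 2)
    {y : G} (hy : y ∈ zpowers a) (hy1 : y ≠ 1) (hodd : Odd (orderOf y)) :
    centralizer ({y} : Set G) = zpowers a := by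
  obtain ⟨r, hr, hry⟩ := Nat.exists_prime_and_dvd (fun e => hy1 (orderOf_eq_one_iff.1 e))
  have hr2 : r ≠ 2 := fun e => by have := Nat.odd_iff.1 hodd; rw [e] at hry; omega
  set z := y ^ (orderOf y / r) with hz
  have hzo : orderOf z = r := orderOf_pow_orderOf_div (orderOf_pos y).ne' hry
  have hcomm : ∀ v ∈ zpowers a, a * v = v * a := fun v hv => by
    obtain ⟨i, rfl⟩ := mem_zpowers_iff.1 hv
    exact ((Commute.refl a).zpow_right i).eq
  refine le_antisymm (fun g hg => ?_) (zpowers_le.2 (mem_centralizer_singleton_iff.2 (hcomm y hy)))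
  have hgz : g ∈ centralizer ({z} : Set G) := mem_centralizer_singleton_iff.2
    ((show Commute g y from mem_centralizer_singleton_iff.1 hg).pow_right _).eq
  have hrT : r ∣ T := by
    rw [← hzo, ← ha, ← Nat.card_zpowers a]; exact Subgroup.orderOf_dvd_natCard _ (pow_mem hy _)
  have hle : centralizer ({z} : Set G) ≤ centralizer ({t} : Set G) := h.le_centralizer_involution ha ht ht2
    (zpowers_le.2 (mem_centralizer_singleton_iff.2 (hcomm z (pow_mem hy _)))) (h.cent_T hr hzo hrT)
  by_contra hgK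
  exact h.not_commute ha ht ht2 (pow_mem hy _) hr hr2 hzo (hle hgz) hgK (mem_centralizer_singleton_iff.1 hgz)

/-- **The odd case.** -/
theorem exists_psl : ∃ (F : Type) (_ : Field F) (_ : Fintype F), Odd (Fintype.card F) ∧
    Nonempty (G ≃* Matrix.ProjectiveSpecialLinearGroup (Fin 2) F) := by
  classical
  have hT := h.T_ge
  obtain ⟨a, ha⟩ := (h.spec T).2 (Or.inr (Or.inl dvd_rfl))
  set t := a ^ (T / 2) with htdef
  have ht : t ∈ zpowers a := pow_mem (mem_zpowers a) _
  have ht2 : orderOf t = 2 := by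
    rw [htdef, ← ha]
    exact orderOf_pow_orderOf_div (orderOf_pos a).ne' (ha ▸ h.even_T)
  set C := centralizer ({t} : Set G) with hC
  have hCc : Nat.card C = 2 * T := h.card_centralizer_involution ha ht ht2
  have hCd : Nat.card C ∣ 2 * T := hCc ▸ dvd_rfl
  have hcomm : ∀ u ∈ zpowers a, ∀ v ∈ zpowers a, u * v = v * u := fun u hu v hv => by
    obtain ⟨i, rfl⟩ := mem_zpowers_iff.1 hu
    obtain ⟨j, rfl⟩ := mem_zpowers_iff.1 hv
    exact ((Commute.refl a).zpow_zpow i j).eq
  have hKC : zpowers a ≤ C := fun u hu => mem_centralizer_singleton_iff.2 (hcomm u hu t ht)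
  obtain ⟨S, n, c, hn, hD, hSC, hcK, htc, hinf, hrel⟩ := h.exists_dihedral_sylow ha ht ht2
  have hcle : zpowers c ≤ (S : Subgroup G) := hinf ▸ inf_le_left
  set O := (Cfsg.oddCore C).map C.subtype with hO
  have hOodd : ∀ y ∈ O, Odd (orderOf y) := by
    rintro _ ⟨y, hy, rfl⟩
    rw [C.coe_subtype, orderOf_coe]
    exact Odd.of_dvd_nat (CfsgLib.ZStar.odd_card_oddCore C) (Subgroup.orderOf_dvd_natCard _ hy)
  have hOK : O ≤ zpowers a := fun y hy => by
    obtain ⟨l, hl⟩ := hOodd y hy
    have hyC : y ∈ C := map_subtype_le _ hy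
    have h1 := (h.conj_mem ha hKC hCd hyC ht).2
    have h2 : y = (y * y) ^ (l + 1) := by
      rw [← pow_two, ← pow_mul, show 2 * (l + 1) = orderOf y + 1 by omega, pow_succ, pow_orderOf_eq_one, one_mul]
    rw [h2]; exact pow_mem h1 _
  have hout : ∀ w ∈ C, w ∉ zpowers a → ∀ y ∈ O, w * y * w⁻¹ = y⁻¹ := by
    intro w hwC hwK y hy
    have hyK := hOK hy
    obtain ⟨h1, h2⟩ := h.conj_mem ha hKC hCd hwC hyK
    set d := w * y * w⁻¹ * y with hd
    have hdK : d ∈ zpowers a := mul_mem h1 hyK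
    have hdw : w * d * w⁻¹ = d := by
      have e : w * (w * y * w⁻¹) * w⁻¹ = y := by
        calc w * (w * y * w⁻¹) * w⁻¹ = (w * w) * y * (w * w)⁻¹ := by group
          _ = y := by rw [hcomm _ h2 _ hyK, mul_inv_cancel_right]
      calc w * d * w⁻¹ = w * (w * y * w⁻¹) * w⁻¹ * (w * y * w⁻¹) := by rw [hd]; group
        _ = d := by rw [e, hcomm _ hyK _ h1]
    by_contra hne
    have hd1 : d ≠ 1 := fun e => hne (eq_inv_of_mul_eq_one_left e)
    have hdodd : Odd (orderOf d) := by
      refine Odd.of_dvd_nat (hOodd y hy) (orderOf_dvd_of_pow_eq_one ?_)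
      rw [hd, (show Commute (w * y * w⁻¹) y from hcomm _ h1 _ hyK).mul_pow, conj_pow, pow_orderOf_eq_one,
        mul_one, mul_one, mul_inv_cancel]
    exact hwK ((h.centralizer_eq ha ht ht2 hdK hd1 hdodd).le
      (mem_centralizer_singleton_iff.2 (mul_inv_eq_iff_eq_mul.1 hdw)))
  haveI := h.simple
  refine Cfsg.Agent.S0508.result S n hn hD t ht2 (hcle htc)
    (fun s hs => mem_centralizer_singleton_iff.1 (hSC hs)) O hO (fun hne => ?_) (fun s hs hsO y hy => ?_)
    (fun Y hYO hYne g hg => ?_)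
  · obtain ⟨y, hy, hy1⟩ := O.bot_or_exists_ne_one.resolve_left hne
    have e : (S : Subgroup G) ⊓ centralizer (O : Set G) = zpowers c := by
      refine le_antisymm (fun w hw => hinf ▸ ⟨hw.1, ?_⟩) (le_inf hcle (fun w hw => mem_centralizer_iff.2
        fun u hu => hcomm u (hOK hu) w (zpowers_le.2 hcK hw)))
      exact (h.centralizer_eq ha ht ht2 (hOK hy) hy1 (hOodd y hy)).le
        (mem_centralizer_singleton_iff.2 (mem_centralizer_iff.1 hw.2 y hy).symm)
    rw [e]
    exact ⟨inferInstance, hrel⟩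
  · exact hout s (hSC hs) (fun e => hsO (mem_centralizer_iff.2 fun u hu => hcomm u (hOK hu) s e)) y hy
  · obtain ⟨y, hy, hy1⟩ := Y.bot_or_exists_ne_one.resolve_left hYne
    have hy' : g * y * g⁻¹ ∈ Y := (mem_normalizer_iff.1 hg y).1 hy
    have e1 : g * t * g⁻¹ ∈ zpowers a := by
      rw [← h.centralizer_eq ha ht ht2 (hOK (hYO hy')) (by simpa using hy1) (hOodd _ (hYO hy')),
        mem_centralizer_singleton_iff]
      calc g * t * g⁻¹ * (g * y * g⁻¹) = g * (t * y) * g⁻¹ := by group
        _ = g * (y * t) * g⁻¹ := by rw [hcomm t ht y (hOK (hYO hy))]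
        _ = _ := by group
    have e2 := involution_unique e1 ht ((orderOf_conjugate g t).trans ht2) ht2
    exact mem_centralizer_singleton_iff.2 (mul_inv_eq_iff_eq_mul.1 e2)

end OddSetup

end CfsgLib.PSLOrderSpectrum
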