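import Cfsg.Agent.Lib.Recog.PSLOrderSpectrum.Basic
import Cfsg.Agent.Lib.PGroups.ShultGross.Critical

/-!
# The order and the element orders of `PSL(2, q)`, `q` odd: the group is simple
-/

set_option autoImplicit false
set_option linter.all false

namespace CfsgLib.PSLOrderSpectrum

open Subgroup

variable {G : Type*} [Group G] [Finite G]

/-- The centraliser of an element of prime order, bounded by the primes it reaches. -/
theorem card_centralizer_dvd {X N : ℕ} (hG : Nat.card G = N * X) (hco : N.Coprime X) {z : G} {r : ℕ}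
    (hr : r.Prime) (hz : orderOf z = r) (hrX : r ∣ X)
    (hX : ∀ y : G, r ∣ orderOf y → orderOf y ∣ X) : Nat.card (centralizer ({z} : Set G)) ∣ X := by
  refine Nat.Coprime.dvd_of_dvd_mul_left ?_ (hG ▸ card_subgroup_dvd_card _)
  refine Nat.coprime_of_dvd fun ℓ hℓ hℓC hℓN => ?_
  haveI := Fact.mk hℓ
  have hℓX : ¬ ℓ ∣ X := fun h => hℓ.one_lt.ne' (Nat.eq_one_of_dvd_coprimes hco hℓN h)
  obtain ⟨⟨y, hy⟩, hyo⟩ := exists_prime_orderOf_dvd_card' ℓ hℓC
  rw [Subgroup.orderOf_mk] at hyo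
  have hne : ℓ ≠ r := fun e => hℓX (e ▸ hrX)
  have hc : Commute y z := mem_centralizer_singleton_iff.1 hy
  have ho : orderOf (y * z) = ℓ * r := by
    rw [hc.orderOf_mul_eq_mul_orderOf_of_coprime (by rw [hyo, hz]; exact (Nat.coprime_primes hℓ hr).2 hne), hyo, hz]
  exact hℓX ((dvd_mul_right ℓ r).trans (ho ▸ hX (y * z) (ho ▸ dvd_mul_left r ℓ)))

/-- An orbit of a nontrivial element of a normal subgroup. -/
theorem card_le_orbit (V : Subgroup G) [hV : V.Normal] {v : G} (hv : v ∈ V) (hv1 : v ≠ 1) :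
    Nat.card G ≤ (Nat.card V - 1) * Nat.card (centralizer ({v} : Set G)) := by
  classical
  haveI := Fintype.ofFinite V
  rw [← (centralizer ({v} : Set G)).index_mul_card]
  refine Nat.mul_le_mul_right _ ?_
  let f : G ⧸ centralizer ({v} : Set G) → {x : V // x ≠ 1} := fun g =>
    ⟨⟨g.out * v * g.out⁻¹, hV.conj_mem v hv _⟩, fun e => hv1 (by simpa using congrArg Subtype.val e)⟩
  have hf : Function.Injective f := by
    intro g g' h
    have h1 : g.out * v * g.out⁻¹ = g'.out * v * g'.out⁻¹ := congrArg (fun x : {x : V // x ≠ 1} => ((x : V) : G)) h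
    rw [← QuotientGroup.out_eq' g, ← QuotientGroup.out_eq' g', QuotientGroup.eq, mem_centralizer_singleton_iff]
    calc g.out⁻¹ * g'.out * v = g.out⁻¹ * (g'.out * v * g'.out⁻¹) * g'.out := by group
      _ = g.out⁻¹ * (g.out * v * g.out⁻¹) * g'.out := by rw [h1]
      _ = v * (g.out⁻¹ * g'.out) := by group
  have h2 := Nat.card_le_card_of_injective f hf
  rwa [← index_eq_card, Nat.card_eq_fintype_card (α := {x : V // x ≠ 1}), Fintype.card_subtype_compl,
    Fintype.card_subtype_eq, ← Nat.card_eq_fintype_card] at h2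

/-- A cyclic group acting without fixed points on a normal subgroup. -/
theorem orderOf_dvd_card_sub_one (V : Subgroup G) [hV : V.Normal] (a : G)
    (h : ∀ i : ℕ, a ^ i ≠ 1 → ∀ v ∈ V, a ^ i * v = v * a ^ i → v = 1) : orderOf a ∣ Nat.card V - 1 := by
  refine CfsgLib.PGroups.ShultGross.dvd_card_sub_one_of_free (MulAut.conjNormal a : MulAut V) (orderOf a)
    (orderOf_pos a) (by rw [← map_pow, pow_orderOf_eq_one, map_one]) fun i hi0 hi v hv => ?_
  rw [← map_pow] at hv
  have h1 : a ^ i * (v : G) * (a ^ i)⁻¹ = v := by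
    have := congrArg Subtype.val hv
    rwa [MulAut.conjNormal_apply] at this
  exact Subtype.ext (h i (fun e => (Nat.le_of_dvd hi0 (orderOf_dvd_of_pow_eq_one e)).not_gt hi) v v.2
    (mul_inv_eq_iff_eq_mul.1 h1))

/-- The numbers of `PSL(2, q)`, `q` odd: `T` is the even one of `(q ± 1) / 2`, `A` the odd one. -/
structure OddSetup (G : Type*) [Group G] (q p T A : ℕ) : Prop where
  q_ge : 5 ≤ q
  prime : p.Prime
  odd_p : p ≠ 2
  q_pow : ∃ f, q = p ^ f
  shape : (T + 1 = A ∧ q = 2 * T + 1) ∨ (A + 1 = T ∧ q = 2 * A + 1)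
  even_T : 2 ∣ T
  odd_A : Odd A
  card_eq : Nat.card G = q * A * (2 * T)
  spec : ∀ n : ℕ, (∃ g : G, orderOf g = n) ↔ (n = p ∨ n ∣ T ∨ n ∣ A)

namespace OddSetup

variable {q p T A : ℕ} (h : OddSetup G q p T A)
include h

omit [Finite G] in
theorem T_ge : 2 ≤ T := by
  have := h.q_ge; have := h.even_T
  rcases h.shape with ⟨_, _⟩ | ⟨_, _⟩ <;> omega

omit [Finite G] in
theorem A_ge : 3 ≤ A := by
  have := h.q_ge; have := Nat.odd_iff.1 h.odd_A; have := h.T_ge
  rcases h.shape with ⟨_, _⟩ | ⟨_, _⟩ <;> omega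

omit [Finite G] in
theorem cop : Nat.Coprime q T ∧ Nat.Coprime q A ∧ Nat.Coprime T A ∧ Nat.Coprime q 2 := by
  have hA := Nat.odd_iff.1 h.odd_A
  have hq2 : Nat.Coprime q 2 := by
    rw [Nat.coprime_two_right, Nat.odd_iff]
    rcases h.shape with ⟨_, _⟩ | ⟨_, _⟩ <;> omega
  rcases h.shape with ⟨h1, h2⟩ | ⟨h1, h2⟩
  · subst h1 h2
    refine ⟨?_, ?_, ?_, hq2⟩
    · rw [Nat.coprime_iff_gcd_eq_one, add_comm, Nat.gcd_add_mul_right_left, Nat.gcd_one_left]
    · apply Nat.coprime_of_dvd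
      intro r hr h1 h2
      have h3 : r ∣ 2 * (T + 1) := h2.mul_left 2
      have : r ∣ 2 * (T + 1) - (2 * T + 1) := Nat.dvd_sub h3 h1
      rw [show 2 * (T + 1) - (2 * T + 1) = 1 by omega] at this
      exact hr.one_lt.ne' (Nat.dvd_one.1 this)
    · simp
  · subst h1 h2
    refine ⟨?_, ?_, ?_, hq2⟩
    · apply Nat.coprime_of_dvd
      intro r hr h1 h2
      have h3 : r ∣ 2 * (A + 1) := h2.mul_left 2
      have : r ∣ 2 * (A + 1) - (2 * A + 1) := Nat.dvd_sub h3 h1
      rw [show 2 * (A + 1) - (2 * A + 1) = 1 by omega] at this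
      exact hr.one_lt.ne' (Nat.dvd_one.1 this)
    · rw [Nat.coprime_iff_gcd_eq_one, add_comm, Nat.gcd_add_mul_right_left, Nat.gcd_one_left]
    · simp [Nat.coprime_comm]

omit [Finite G] in
theorem p_dvd_q : p ∣ q := by
  obtain ⟨f, hf⟩ := h.q_pow
  have := h.q_ge
  exact hf ▸ dvd_pow_self p (fun e => by rw [e, pow_zero] at hf; omega)

omit [Finite G] in
theorem p_not_dvd : ¬ p ∣ T ∧ ¬ p ∣ A := by
  obtain ⟨h1, h2, -, -⟩ := h.cop
  exact ⟨fun e => h.prime.one_lt.ne' (Nat.eq_one_of_dvd_coprimes h1 h.p_dvd_q e),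
    fun e => h.prime.one_lt.ne' (Nat.eq_one_of_dvd_coprimes h2 h.p_dvd_q e)⟩

/-- The orders of elements reached from a prime of `A`. -/
theorem dvd_A {r : ℕ} (hr : r.Prime) (hrA : r ∣ A) (y : G) (hy : r ∣ orderOf y) : orderOf y ∣ A := by
  rcases (h.spec _).1 ⟨y, rfl⟩ with e | e | e
  · rw [e, Nat.prime_dvd_prime_iff_eq hr h.prime] at hy
    exact absurd (hy ▸ hrA) h.p_not_dvd.2
  · exact absurd (Nat.eq_one_of_dvd_coprimes h.cop.2.2.1 (hy.trans e) hrA) hr.one_lt.ne'
  · exact e

/-- The orders of elements reached from a prime of `T`. -/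
theorem dvd_T {r : ℕ} (hr : r.Prime) (hrT : r ∣ T) (y : G) (hy : r ∣ orderOf y) : orderOf y ∣ T := by
  rcases (h.spec _).1 ⟨y, rfl⟩ with e | e | e
  · rw [e, Nat.prime_dvd_prime_iff_eq hr h.prime] at hy
    exact absurd (hy ▸ hrT) h.p_not_dvd.1
  · exact e
  · exact absurd (Nat.eq_one_of_dvd_coprimes h.cop.2.2.1 hrT (hy.trans e)) hr.one_lt.ne'

omit [Finite G] in
theorem cop_T : (q * A).Coprime (2 * T) := by
  obtain ⟨h1, h2, h3, h4⟩ := h.cop
  exact Nat.Coprime.mul_left (h4.mul_right h1)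
    ((Nat.coprime_two_right.2 h.odd_A).mul_right h3.symm)

theorem cent_T {z : G} {r : ℕ} (hr : r.Prime) (hz : orderOf z = r) (hrT : r ∣ T) :
    Nat.card (centralizer ({z} : Set G)) ∣ 2 * T :=
  card_centralizer_dvd h.card_eq h.cop_T hr hz (hrT.mul_left 2) fun y hy => (h.dvd_T hr hrT y hy).mul_left 2

theorem torus : Torus G (q * (2 * T)) A where
  odd := h.odd_A
  one_lt := by have := h.A_ge; omega
  card_eq := by rw [h.card_eq]; ring
  coprime := Nat.Coprime.mul_left h.cop.2.1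
    ((Nat.coprime_two_left.2 h.odd_A).mul_left h.cop.2.2.1)
  modTwo := fun r hr hrA => by
    obtain ⟨c, hc⟩ := hrA
    rcases h.shape with ⟨h1, h2⟩ | ⟨h1, h2⟩
    · refine (Nat.modEq_iff_dvd' ?_).2 ⟨c * (4 * T) - 2 * c, ?_⟩ |>.symm
      · have := h.T_ge; nlinarith
      · have e : r * (c * (4 * T) - 2 * c) = (T + 1) * (4 * T) - 2 * (T + 1) := by
          rw [h1, hc, Nat.mul_sub]; ring_nf
        rw [e, h2]
        have := h.T_ge
        have e1 : (2 * T + 1) * (2 * T) + 2 * (T + 1) = (T + 1) * (4 * T) + 2 := by ring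
        have e2 : 2 * (T + 1) ≤ (T + 1) * (4 * T) := by nlinarith
        omega
    · refine (Nat.modEq_iff_dvd' ?_).2 ⟨c * (4 * A) + 6 * c, ?_⟩ |>.symm
      · have := h.T_ge; nlinarith
      · have e : r * (c * (4 * A) + 6 * c) = A * (4 * A) + 6 * A := by
          rw [hc]; ring
        rw [e, h2, ← h1]
        have e1 : (2 * A + 1) * (2 * (A + 1)) = A * (4 * A) + 6 * A + 2 := by ring
        omega
  exists_gen := (h.spec A).2 (Or.inr (Or.inr dvd_rfl))
  cent := fun z hz hzA => card_centralizer_dvd (N := q * (2 * T)) (by rw [h.card_eq]; ring)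
    (Nat.Coprime.mul_left h.cop.2.1 ((Nat.coprime_two_left.2 h.odd_A).mul_left h.cop.2.2.1)) hz rfl hzA
    (fun y hy => h.dvd_A hz hzA y hy)

/-- There is no abelian normal subgroup. -/
theorem noV (V : Subgroup G) (s : ℕ) (hVn : V.Normal) (hs : s.Prime) (hVc : ∀ x y : V, x * y = y * x)
    (hVe : ∀ x : V, x ^ s = 1) : V = ⊥ := by
  classical
  haveI := hVn
  haveI := Fact.mk hs
  by_contra hVb
  obtain ⟨v, hv, hv1⟩ := V.bot_or_exists_ne_one.resolve_left hVb
  have hvo : orderOf v = s := orderOf_eq_prime (congrArg Subtype.val (hVe ⟨v, hv⟩)) hv1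
  have hVp : IsPGroup s V := fun x => ⟨1, by rw [pow_one]; exact hVe x⟩
  obtain ⟨j, hj⟩ := IsPGroup.iff_card.1 hVp
  have hVG : Nat.card V ∣ Nat.card G := card_subgroup_dvd_card V
  have horb := card_le_orbit V hv hv1
  have hA := h.A_ge
  have hT := h.T_ge
  have hq := h.q_ge
  have hsG : s ∣ q * A * (2 * T) := h.card_eq ▸ hvo ▸ orderOf_dvd_natCard v
  have cases3 : s = p ∨ s ∣ A ∨ s ∣ T := by
    rcases hs.dvd_mul.1 hsG with h1 | h1
    · rcases hs.dvd_mul.1 h1 with h2 | h2
      · obtain ⟨f, hf⟩ := h.q_pow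
        exact Or.inl ((Nat.prime_dvd_prime_iff_eq hs h.prime).1 (hs.dvd_of_dvd_pow (hf ▸ h2)))
      · exact Or.inr (Or.inl h2)
    · rcases hs.dvd_mul.1 h1 with h2 | h2
      · exact Or.inr (Or.inr (((Nat.prime_dvd_prime_iff_eq hs Nat.prime_two).1 h2) ▸ h.even_T))
      · exact Or.inr (Or.inr h2)
  rcases cases3 with rfl | hsA | hsT
  · -- characteristic: both tori act freely
    have hfree : ∀ (a : G) (n : ℕ), orderOf a = n → (n ∣ T ∨ n ∣ A) → orderOf a ∣ Nat.card V - 1 := by
      intro a n ha hn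
      refine orderOf_dvd_card_sub_one V a fun i hi w hw hc => ?_
      by_contra hw1
      have hwo : orderOf w = s := orderOf_eq_prime (congrArg Subtype.val (hVe ⟨w, hw⟩)) hw1
      set d := orderOf (a ^ i) with hd
      have hdn : d ∣ n := ha ▸ orderOf_pow_dvd i
      have hd1 : d ≠ 1 := fun e => hi (orderOf_eq_one_iff.1 e)
      have hsn : ¬ s ∣ n := by
        rcases hn with e | e
        · exact fun h' => h.p_not_dvd.1 (h'.trans e)
        · exact fun h' => h.p_not_dvd.2 (h'.trans e)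
      have ho : orderOf (a ^ i * w) = d * s := by
        rw [(show Commute (a ^ i) w from hc).orderOf_mul_eq_mul_orderOf_of_coprime, hwo]
        rw [hwo]
        exact ((Nat.Prime.coprime_iff_not_dvd hs).2 (fun h' => hsn (h'.trans hdn))).symm
      rcases (h.spec _).1 ⟨_, ho⟩ with e | e | e
      · exact hd1 (Nat.eq_of_mul_eq_mul_right hs.pos (e.trans (one_mul s).symm))
      · exact h.p_not_dvd.1 ((dvd_mul_left s d).trans e)
      · exact h.p_not_dvd.2 ((dvd_mul_left s d).trans e)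
    obtain ⟨a, ha⟩ := (h.spec T).2 (Or.inr (Or.inl dvd_rfl))
    obtain ⟨b, hb⟩ := (h.spec A).2 (Or.inr (Or.inr dvd_rfl))
    have h1 := hfree a T ha (Or.inl dvd_rfl)
    have h2 := hfree b A hb (Or.inr dvd_rfl)
    rw [ha] at h1; rw [hb] at h2
    have h3 : T * A ∣ Nat.card V - 1 := Nat.Coprime.mul_dvd_of_dvd_of_dvd h.cop.2.2.1 h1 h2
    have h4 : Nat.card V ∣ q := by
      rw [hj, h.card_eq] at hVG
      rw [hj]
      refine Nat.Coprime.dvd_of_dvd_mul_right ?_ (show s ^ j ∣ q * (A * (2 * T)) by rwa [← mul_assoc])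
      refine Nat.Coprime.pow_left j ?_
      rw [Nat.Prime.coprime_iff_not_dvd hs]
      intro e
      rcases hs.dvd_mul.1 e with e | e
      · exact h.p_not_dvd.2 e
      · rcases hs.dvd_mul.1 e with e | e
        · exact h.odd_p ((Nat.prime_dvd_prime_iff_eq hs Nat.prime_two).1 e)
        · exact h.p_not_dvd.1 e
    have h5 := Nat.le_of_dvd (by omega) h4
    have h6 : 1 < Nat.card V := by
      haveI : Nontrivial V := V.nontrivial_iff_ne_bot.2 hVb
      exact Finite.one_lt_card
    have h7 := Nat.le_of_dvd (by omega) h3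
    have h8 : T * A + 1 ≤ q := by omega
    rcases h.shape with ⟨_, _⟩ | ⟨_, _⟩
    · nlinarith [Nat.mul_le_mul_left T hA]
    · nlinarith [Nat.mul_le_mul_left T hA]
  · -- a prime of the odd torus
    have hC : Nat.card (centralizer ({v} : Set G)) ≤ A :=
      Nat.le_of_dvd (by omega) (h.torus.cent v (hvo ▸ hs) (hvo ▸ hsA))
    obtain ⟨Q, hQ⟩ := IsPGroup.exists_le_sylow hVp
    obtain ⟨b, -, hQb, -, -⟩ := h.torus.sylow_facts hsA Q
    haveI : IsCyclic V := isCyclic_of_injective (inclusion (hQ.trans hQb)) (inclusion_injective _)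
    obtain ⟨g, hg⟩ := IsCyclic.exists_generator (α := V)
    have hVs : Nat.card V ≤ s := by
      rw [← orderOf_eq_card_of_forall_mem_zpowers hg]
      exact Nat.le_of_dvd hs.pos (orderOf_dvd_of_pow_eq_one (hVe g))
    have hsA' := Nat.le_of_dvd (by omega) hsA
    have hle : (Nat.card V - 1) * Nat.card (centralizer ({v} : Set G)) ≤ A * A :=
      Nat.mul_le_mul (by omega) hC
    rw [h.card_eq] at horb
    have hlt : A * A < q * A * (2 * T) := by
      have hqA : A ≤ q := by rcases h.shape with ⟨_, _⟩ | ⟨_, _⟩ <;> omega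
      calc A * A ≤ q * A := Nat.mul_le_mul_right A hqA
        _ < q * A * (2 * T) := lt_mul_of_one_lt_right (Nat.mul_pos (by omega) (by omega)) (by omega)
    omega
  · -- a prime of the even torus
    have hC : Nat.card (centralizer ({v} : Set G)) ≤ 2 * T :=
      Nat.le_of_dvd (by omega) (h.cent_T hs hvo hsT)
    obtain ⟨a, ha⟩ := (h.spec T).2 (Or.inr (Or.inl dvd_rfl))
    have hi1 : Nat.card (V ⊓ zpowers a : Subgroup G) ∣ s := by
      haveI : IsCyclic (V ⊓ zpowers a : Subgroup G) :=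
        isCyclic_of_injective (inclusion (inf_le_right : V ⊓ zpowers a ≤ zpowers a)) (inclusion_injective _)
      obtain ⟨g, hg⟩ := IsCyclic.exists_generator (α := (V ⊓ zpowers a : Subgroup G))
      rw [← orderOf_eq_card_of_forall_mem_zpowers hg]
      exact orderOf_dvd_of_pow_eq_one (Subtype.ext (by
        have := congrArg Subtype.val (hVe ⟨(g : G), g.2.1⟩)
        simpa using this))
    have hsup : Nat.card V * T ∣ Nat.card G * s := by
      have e1 : Nat.card (V ⊓ zpowers a : Subgroup G) * V.relIndex (zpowers a) = T := by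
        rw [← inf_relIndex_right V (zpowers a), relIndex,
          ← Nat.card_congr (subgroupOfEquivOfLe (inf_le_right : V ⊓ zpowers a ≤ zpowers a)).toEquiv, card_mul_index,
          Nat.card_zpowers, ha]
      have e2 : Nat.card V * V.relIndex (zpowers a) = Nat.card (zpowers a ⊔ V : Subgroup G) := by
        rw [← relIndex_sup_right, relIndex,
          ← Nat.card_congr (subgroupOfEquivOfLe (le_sup_right : V ≤ zpowers a ⊔ V)).toEquiv, card_mul_index]
      rw [← e1, mul_comm (Nat.card (V ⊓ zpowers a : Subgroup G)), ← mul_assoc, e2]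
      exact Nat.mul_dvd_mul (card_subgroup_dvd_card _) hi1
    have hV2 : Nat.card V ≤ 2 * s := by
      rw [h.card_eq, show q * A * (2 * T) * s = (q * A) * (2 * s) * T by ring] at hsup
      have h1 := Nat.dvd_of_mul_dvd_mul_right (by omega) hsup
      refine Nat.le_of_dvd (by have := hs.pos; omega) (Nat.Coprime.dvd_of_dvd_mul_left ?_ h1)
      rw [hj]
      exact (Nat.Coprime.coprime_dvd_left (hsT.mul_left 2) h.cop_T.symm).pow_left j
    have hsT' := Nat.le_of_dvd (by omega) hsT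
    have hle : (Nat.card V - 1) * Nat.card (centralizer ({v} : Set G)) ≤ (2 * T) * (2 * T) :=
      Nat.mul_le_mul (by omega) hC
    rw [h.card_eq] at horb
    have hlt : (2 * T) * (2 * T) < q * A * (2 * T) := by
      apply Nat.mul_lt_mul_of_pos_right _ (by omega)
      rcases h.shape with ⟨_, _⟩ | ⟨_, _⟩ <;> nlinarith
    omega

theorem simple : IsSimpleGroup G := h.torus.simple fun V s => h.noV V s

end OddSetup

end CfsgLib.PSLOrderSpectrum
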